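import Groth.Agent.Sga3.H806.ApproxProp
import Groth.Agent.Sga3.H778.NeutralOpen

/-!
# Noetherian approximation of smooth group schemes with connected fibres

`exists_noetherian_conn`.
-/

set_option autoImplicit false
universe u

open CategoryTheory MonoidalCategory CartesianMonoidalCategory AlgebraicGeometry Limits MonObj

namespace Groth.Agent.Sga3.H806.ApproxConn

open Groth.Agent.Sga3.H778.NeutralOpen Groth.Agent.Sga3.H778.NeutralPts Groth.Agent.Sga3B.BcPts
  Groth.Agent.Sga3.H806.LawCmp

variable {S S' : Scheme.{u}}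

/-- The unit section of a base change. -/
lemma unit_bc (q : S' ⟶ S) (G : Over S) [GrpObj G] :
    unitSec (Red.bc q G) ≫ pullback.fst G.hom q = q ≫ unitSec G := by
  have h1 : (bcMulEquiv q (𝟙_ _) G).symm η[Red.bc q G] = 1 := by
    rw [one_eq_one, map_one]
  have h2 := bcEquiv_symm_left q η[Red.bc q G]
  rw [unitSec, ← h2]
  have h3 : (1 : (Over.map q).obj (𝟙_ (Over S')) ⟶ G) = toUnit _ ≫ η[G] := rfl
  have h4 : (bcEquiv q (𝟙_ _) G).symm η[Red.bc q G] = toUnit _ ≫ η[G] := h1.trans h3
  rw [h4, Over.comp_left]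
  congr 1

/-- The neutral set commutes with base change. -/
theorem preimage_neutralSet (q : S' ⟶ S) (G : Over S) [GrpObj G] :
    pullback.fst G.hom q ⁻¹' SGA3x.neutralSet G = SGA3x.neutralSet (Red.bc q G) := by
  rw [neutralSet_eq, neutralSet_eq]
  exact (Groth.Agent.Flat2D.RatPointConn.sectionComponents_baseChange G.hom (unitSec G) (unitSec_hom G)
    (Red.bc q G).hom (pullback.fst G.hom q) q (IsPullback.of_hasPullback _ _) (unitSec (Red.bc q G))
    (unitSec_hom _) (unit_bc q G)).symm

/-- If the fibres are connected, the neutral set is everything. -/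
theorem neutralSet_eq_univ (G : Over S) [GrpObj G] (h : ∀ s : S, _root_.IsConnected (G.hom ⁻¹' {s})) :
    SGA3x.neutralSet G = Set.univ := by
  rw [neutralSet_eq]
  ext x
  simp only [Set.mem_univ, iff_true, MoreMor.sectionComponents, Set.mem_ofPred_eq]
  rw [(h (G.hom x)).isPreconnected.connectedComponentIn]
  · rfl
  · exact hom_unitSec G _

/-- Connectedness of the fibres is invariant under isomorphisms. -/
lemma conn_of_iso {G H : Over S} (e : G ≅ H) (h : ∀ s : S, _root_.IsConnected (G.hom ⁻¹' {s})) (s : S) :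
    _root_.IsConnected (H.hom ⁻¹' {s}) := by
  have hl' : IsIso e.hom.left := inferInstanceAs (IsIso ((Over.forget _).map e.hom))
  have h1 : H.hom ⁻¹' {s} = e.hom.left '' (G.hom ⁻¹' {s}) := by
    ext x
    constructor
    · intro hx
      obtain ⟨y, rfl⟩ := e.hom.left.homeomorph.surjective x
      refine ⟨y, ?_, rfl⟩
      change G.hom y = s
      rw [← Over.w e.hom, Scheme.Hom.comp_apply]
      exact hx
    · rintro ⟨y, hy, rfl⟩
      change H.hom _ = s
      rw [← Scheme.Hom.comp_apply, Over.w e.hom]
      exact hy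
  rw [h1]
  exact (h s).image _ e.hom.left.continuous.continuousOn

/-- **The open neutral component** over the base: if a base change of `G` has connected fibres, it is the base change of
the neutral component of `G`. -/
theorem nonempty_iso_neutral (G : Over S) [GrpObj G] [Smooth G.hom] (q : S' ⟶ S) (X : Over S') [GrpObj X]
    (hconn : ∀ s : S', _root_.IsConnected (X.hom ⁻¹' {s}))
    (e : Nonempty (Grp.mk (Red.bc q G) ≅ Grp.mk X)) :
    ∃ (G₀ : Over S) (_ : GrpObj G₀), Smooth G₀.hom ∧ (∀ s : S, _root_.IsConnected (G₀.hom ⁻¹' {s})) ∧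
      Nonempty (Grp.mk (Red.bc q G₀) ≅ Grp.mk X) := by
  obtain ⟨e⟩ := e
  have hs : Smooth ((⊤ : G.left.Opens).ι ≫ G.hom) := inferInstance
  have hopen := isOpen_neutralSet G ⊤ (fun _ => trivial)
  obtain ⟨hgrp, hmon⟩ := exists_grpObj G hopen
  refine ⟨opn G (neutral G hopen), hgrp, smooth_neutral G ⊤ (fun _ => trivial) hopen, isConnected_fibre G hopen, ?_⟩
  have hconn' : ∀ s : S', _root_.IsConnected ((Red.bc q G).hom ⁻¹' {s}) :=
    conn_of_iso ((Grp.forget _).mapIso e.symm) hconn
  have h1 : pullback.fst G.hom q ⁻¹' SGA3x.neutralSet G = Set.univ := by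
    rw [preimage_neutralSet, neutralSet_eq_univ _ hconn']
  let i := opnι G (neutral G hopen)
  have hp : IsPullback (pullback.fst (opn G (neutral G hopen)).hom q) ((Over.pullback q).map i).left i.left
      (pullback.fst G.hom q) := by
    have h2 : IsPullback (pullback.fst (opn G (neutral G hopen)).hom q)
        (((Over.pullback q).map i).left ≫ (Red.bc q G).hom) (i.left ≫ G.hom) q := by
      rw [Over.w, Over.w]
      exact IsPullback.of_hasPullback _ _
    refine IsPullback.of_bot h2 ?_ (IsPullback.of_hasPullback _ _)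
    exact (pullback.lift_fst _ _ _).symm
  have hoi : IsOpenImmersion ((Over.pullback q).map i).left :=
    MorphismProperty.of_isPullback hp (inferInstanceAs (IsOpenImmersion i.left))
  have hsurj : Surjective ((Over.pullback q).map i).left := by
    constructor
    intro x
    have hx : pullback.fst G.hom q x ∈ SGA3x.neutralSet G := by
      have : x ∈ (Set.univ : Set (Red.bc q G).left) := trivial
      rw [← h1] at this
      exact this
    have hx' : pullback.fst G.hom q x ∈ Set.range i.left := by
      change _ ∈ Set.range (neutral G hopen).ι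
      rw [Scheme.Opens.range_ι]
      exact hx
    obtain ⟨y, hy⟩ := hx'
    obtain ⟨z, -, hz⟩ := Scheme.exists_preimage_of_isPullback hp y x hy
    exact ⟨z, hz⟩
  have hiso : IsIso ((Over.pullback q).map i).left :=
    (isIso_iff_isOpenImmersion_and_surjective _).mpr ⟨hoi, hsurj⟩
  have hiso' : IsIso ((Over.pullback q).map i) := by
    have : IsIso ((Over.forget _).map ((Over.pullback q).map i)) := hiso
    exact isIso_of_reflects_iso _ (Over.forget _)
  have hm : IsMonHom i := hmon
  exact ⟨Grp.mkIso (asIso ((Over.pullback q).map i)) (IsMonHom.one_hom _) (IsMonHom.mul_hom _) ≪≫ e⟩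

/-- **Noetherian approximation of smooth group schemes with connected fibres** over a ring. -/
theorem exists_noetherian_conn {R : Type u} [CommRing R] (X : Over (Spec (CommRingCat.of R))) [GrpObj X]
    [Smooth X.hom] [QuasiCompact X.hom] [QuasiSeparated X.hom]
    (hconn : ∀ s, _root_.IsConnected (X.hom ⁻¹' {s})) :
    ∃ (R₀ : Subalgebra ℤ R) (G : Over (Spec (CommRingCat.of R₀))) (_ : GrpObj G), R₀.FG ∧
      Smooth G.hom ∧ QuasiCompact G.hom ∧ IsSeparated G.hom ∧ (∀ s, _root_.IsConnected (G.hom ⁻¹' {s})) ∧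
      Nonempty (Grp.mk (Red.bc (Spec.map (CommRingCat.ofHom R₀.val.toRingHom)) G) ≅ Grp.mk X) := by
  obtain ⟨R₀, G, hG, h1, h2, h3, h4, h5⟩ := Groth.Agent.Sga3.H806.ApproxProp.exists_noetherian_smooth X
  obtain ⟨G₀, hG₀, h6, h7, h8⟩ := nonempty_iso_neutral G _ X hconn h5
  obtain ⟨h9, h10⟩ := Groth.Agent.S3025.result _ G₀ h7
  exact ⟨R₀, G₀, hG₀, h1, h6, h10, h9, h7, h8⟩

end Groth.Agent.Sga3.H806.ApproxConn
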