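import Groth.Agent.Sga3.H806.SsOpen
import Groth.Agent.Sga3.H806.ApproxConn
import Mathlib.RingTheory.FiniteType

/-!
# Semisimplicity near a semisimple geometric fibre

* `exists_open_noetherian` : locally noetherian base;
* `exists_open` : arbitrary base.
-/

set_option autoImplicit false
universe u

open CategoryTheory MonoidalCategory CartesianMonoidalCategory MonObj GrpObj AlgebraicGeometry Limits

namespace Groth.Agent.Sga3.H806.SsMain

open Groth.Agent.Sga3B Groth.Agent.Sga3B.RadOpen Groth.Agent.Sga3.H806.SsNear Groth.Agent.Sga3.H806.SsOpen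
  Groth.Agent.Sga3B.BcIso

variable {S S' : Scheme.{u}}

/-- Semisimplicity over an open subscheme contained in the semisimple locus, locally noetherian base. -/
theorem isSemisimple_bc_ι [IsLocallyNoetherian S] (G : Over S) [GrpObj G] [Smooth G.hom] [QuasiCompact G.hom]
    (U : S.Opens) (hU : (U : Set S) ⊆ ssLocus G) : Red.IsSemisimple (Red.bc U.ι G) := by
  have h1 : Smooth (Red.bc U.ι G).hom := inferInstanceAs (Smooth (pullback.snd _ _))
  have h2 : QuasiCompact (Red.bc U.ι G).hom := inferInstanceAs (QuasiCompact (pullback.snd _ _))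
  have h3 : IsLocallyNoetherian (U : Scheme.{u}) := isLocallyNoetherian_of_isOpenImmersion U.ι
  have h4 : ∀ s, s ∈ ssLocus (Red.bc U.ι G) := fun s => (mem_ssLocus_bc U.ι G s).mpr (hU s.2)
  exact ⟨isAffineHom_of_semisimple (Red.bc U.ι G) h4, h1, h4⟩

/-- The semisimple locus is invariant under isomorphisms. -/
lemma mem_ssLocus_of_iso {G H : Over S} [GrpObj G] [GrpObj H] (e : Grp.mk G ≅ Grp.mk H) (s : S) (h : s ∈ ssLocus G) :
    s ∈ ssLocus H :=
  RedIso.isSemisimpleOver_of_iso (bcMapIso (Red.geomPt s) e) h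

/-- **Semisimplicity near a semisimple geometric fibre**, affine base. -/
theorem exists_open_affine {R : Type u} [CommRing R] (G : Over (Spec (CommRingCat.of R))) [GrpObj G]
    [Smooth G.hom] [QuasiCompact G.hom] [QuasiSeparated G.hom]
    (hconn : ∀ s, _root_.IsConnected (G.hom.base ⁻¹' {s})) (s : Spec (CommRingCat.of R)) (hs : s ∈ ssLocus G) :
    ∃ U : (Spec (CommRingCat.of R)).Opens, s ∈ U ∧ Red.IsSemisimple (Red.bc U.ι G) := by
  obtain ⟨R₀, G₀, _, hfg, h1, h2, h3, h4, ⟨e⟩⟩ := ApproxConn.exists_noetherian_conn G hconn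
  have hN₀ : IsNoetherianRing R₀ := by
    have : Algebra.FiniteType ℤ R₀ := R₀.fg_iff_finiteType.mp hfg
    exact Algebra.FiniteType.isNoetherianRing ℤ R₀
  have hN : IsLocallyNoetherian (Spec (CommRingCat.of R₀)) := inferInstance
  let p : Spec (CommRingCat.of R) ⟶ Spec (CommRingCat.of R₀) := Spec.map (CommRingCat.ofHom R₀.val.toRingHom)
  have hps : p s ∈ ssLocus G₀ := (mem_ssLocus_bc p G₀ s).mp (mem_ssLocus_of_iso e.symm s hs)
  let U₀ : (Spec (CommRingCat.of R₀)).Opens := ⟨ssLocus G₀, isOpen_ssLocus G₀ h4⟩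
  have hU₀ := isSemisimple_bc_ι G₀ U₀ subset_rfl
  refine ⟨p ⁻¹ᵁ U₀, hps, ?_⟩
  have h5 := RedBc892U.isSemisimple_bc (p ∣_ U₀) hU₀
  refine AlgBc.isSemisimple_of_iso ?_ h5
  exact (bcCompIso (p ∣_ U₀) U₀.ι G₀).symm ≪≫ bcCongrIso (morphismRestrict_ι p U₀) G₀ ≪≫
    bcCompIso (p ⁻¹ᵁ U₀).ι p G₀ ≪≫ bcMapIso _ e

/-- **Semisimplicity near a semisimple geometric fibre.** -/
theorem exists_open (G : Over S) [GrpObj G]
    [Smooth G.hom] [QuasiCompact G.hom] [QuasiSeparated G.hom]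
    (hconn : ∀ s : S, _root_.IsConnected (G.hom.base ⁻¹' {s})) (s : S) (hs : s ∈ ssLocus G) :
    ∃ U : S.Opens, s ∈ U ∧ Red.IsSemisimple (Red.bc U.ι G) := by
  obtain ⟨A, _, j, hj, -, a, rfl⟩ := NearRed.exists_affine S ⊤ s trivial
  have h1 : Smooth (Red.bc j G).hom := inferInstanceAs (Smooth (pullback.snd _ _))
  have h2 : QuasiCompact (Red.bc j G).hom := inferInstanceAs (QuasiCompact (pullback.snd _ _))
  have h3 : QuasiSeparated (Red.bc j G).hom := inferInstanceAs (QuasiSeparated (pullback.snd _ _))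
  obtain ⟨V, haV, hV⟩ := exists_open_affine (Red.bc j G) (isConnected_bc j G hconn) a
    ((mem_ssLocus_bc j G a).mpr hs)
  refine ⟨j ''ᵁ V, ⟨a, haV, rfl⟩, ?_⟩
  have hr : Set.range (j ''ᵁ V).ι ⊆ Set.range (V.ι ≫ j) := by
    rw [Scheme.Opens.range_ι]
    rintro _ ⟨y, hy, rfl⟩
    exact ⟨⟨y, hy⟩, by rw [Scheme.Hom.comp_apply]; rfl⟩
  let e : ((j ''ᵁ V : S.Opens) : Scheme.{u}) ⟶ V := IsOpenImmersion.lift (V.ι ≫ j) (j ''ᵁ V).ι hr
  have he : e ≫ (V.ι ≫ j) = (j ''ᵁ V).ι := IsOpenImmersion.lift_fac _ _ _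
  have h5 := RedBc892U.isSemisimple_bc e hV
  refine AlgBc.isSemisimple_of_iso ?_ h5
  exact bcMapIso e (bcCompIso V.ι j G).symm ≪≫ (bcCompIso e (V.ι ≫ j) G).symm ≪≫ bcCongrIso he G

end Groth.Agent.Sga3.H806.SsMain
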