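import Groth.Agent.CalgA.LimFP
import Mathlib.CategoryTheory.Monoidal.Cartesian.Over
import Mathlib.AlgebraicGeometry.Limits

/-!
# Families of morphisms parametrised by the stages of a cofiltered limit

`D : I ⥤ Scheme` cofiltered with affine transition maps and limit cone `c`, `Z` and `G` of finite presentation over
`D.obj i`.  Morphisms `Z ⊗ c.pt ⟶ G` come from a stage, and equality of two such holds at a stage.
-/

set_option autoImplicit false
universe u

open CategoryTheory MonoidalCategory CartesianMonoidalCategory AlgebraicGeometry Limits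

namespace Groth.Agent.Sga3.H806.StageHom

open Groth.Agent.CalgA.LimFP

variable {I : Type u} [SmallCategory I] {D : I ⥤ Scheme.{u}} {c : Cone D}

section aux

set_option backward.isDefEq.respectTransparency false
set_option backward.defeqAttrib.useBackward true

variable [IsCofiltered I] [∀ (i j : I) (f : i ⟶ j), IsAffineHom (D.map f)]
    [∀ i, CompactSpace (D.obj i)]

theorem factor_aux [∀ i, QuasiSeparatedSpace (D.obj i)] (hc : IsLimit c) {i : I} {Z G : Scheme.{u}}
    (z : Z ⟶ D.obj i) (g : G ⟶ D.obj i) [LocallyOfFinitePresentation g]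
    [QuasiCompact z] [QuasiSeparated z] (u : pullback z (c.π.app i) ⟶ G)
    (hu : u ≫ g = pullback.fst _ _ ≫ z) :
    ∃ (j : I) (a : j ⟶ i) (v : pullback z (D.map a) ⟶ G), v ≫ g = pullback.fst _ _ ≫ z ∧
      ∀ w : pullback z (c.π.app i) ⟶ pullback z (D.map a), w ≫ pullback.fst _ _ = pullback.fst _ _ →
        w ≫ pullback.snd _ _ = pullback.snd _ _ ≫ c.π.app j → w ≫ v = u := by
  have hp : IsPullback (pullback.fst z (c.π.app i)) (pullback.snd z (c.π.app i)) z (c.π.app i) :=
    IsPullback.of_hasPullback _ _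
  have h1 : ∀ {j k : Over i} (a : j ⟶ k), IsAffineHom ((bcDiagram D z).map a) :=
    fun a => isAffineHom_bcDiagram_map a
  have h2 : ∀ j : Over i, CompactSpace ((bcDiagram D z).obj j) :=
    fun j => compactSpace_bcDiagram_obj j
  have h3 : ∀ j : Over i, QuasiSeparatedSpace ((bcDiagram D z).obj j) :=
    fun j => quasiSeparatedSpace_bcDiagram_obj j
  let t : bcDiagram D z ⟶ (Functor.const (Over i)).obj (D.obj i) :=
    { app := fun j => pullback.fst _ _ ≫ z
      naturality := fun j k a => by simp }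
  obtain ⟨j, v, hg1, hg2⟩ := Scheme.exists_π_app_comp_eq_of_locallyOfFinitePresentation
    (bcDiagram D z) t g (bcCone hp) (isLimitBcCone hc hp) u (by
      ext j
      simp only [NatTrans.comp_app, bcCone_π_app, Functor.const_map_app, t]
      rw [pullback.lift_fst_assoc, hu])
  refine ⟨j.left, j.hom, v, hg2, fun w hw1 hw2 => ?_⟩
  rw [← hg1]
  congr 1
  apply pullback.hom_ext
  · rw [hw1]; simp
  · rw [hw2]; simp

theorem eq_aux (hc : IsLimit c) {i : I} {Z G : Scheme.{u}}
    (z : Z ⟶ D.obj i) (g : G ⟶ D.obj i) [LocallyOfFiniteType g]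
    [QuasiCompact z] {j : I} (a : j ⟶ i) (u v : pullback z (D.map a) ⟶ G)
    (hu : u ≫ g = pullback.fst _ _ ≫ z) (hv : v ≫ g = pullback.fst _ _ ≫ z)
    (w : pullback z (c.π.app i) ⟶ pullback z (D.map a)) (hw1 : w ≫ pullback.fst _ _ = pullback.fst _ _)
    (hw2 : w ≫ pullback.snd _ _ = pullback.snd _ _ ≫ c.π.app j) (h : w ≫ u = w ≫ v) :
    ∃ (k : I) (b : k ⟶ j), ∀ w' : pullback z (D.map (b ≫ a)) ⟶ pullback z (D.map a),
      w' ≫ pullback.fst _ _ = pullback.fst _ _ →
        w' ≫ pullback.snd _ _ = pullback.snd _ _ ≫ D.map b → w' ≫ u = w' ≫ v := by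
  have hp : IsPullback (pullback.fst z (c.π.app i)) (pullback.snd z (c.π.app i)) z (c.π.app i) :=
    IsPullback.of_hasPullback _ _
  have h1 : ∀ {j k : Over i} (a : j ⟶ k), IsAffineHom ((bcDiagram D z).map a) :=
    fun a => isAffineHom_bcDiagram_map a
  have h2 : ∀ j : Over i, CompactSpace ((bcDiagram D z).obj j) :=
    fun j => compactSpace_bcDiagram_obj j
  let t : bcDiagram D z ⟶ (Functor.const (Over i)).obj (D.obj i) :=
    { app := fun j => pullback.fst _ _ ≫ z
      naturality := fun j k a => by simp }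
  have hw : (bcCone hp).π.app (Over.mk a) = w := by
    apply pullback.hom_ext
    · refine Eq.trans ?_ hw1.symm
      simp
    · refine Eq.trans ?_ hw2.symm
      simp
  obtain ⟨k, b, hk⟩ := Scheme.exists_hom_comp_eq_comp_of_locallyOfFiniteType
    (bcDiagram D z) t g (bcCone hp) (isLimitBcCone hc hp) (i := Over.mk a)
    u v hu.symm hv.symm (by rw [hw]; exact h)
  have hb : k.hom = b.left ≫ a := (Over.w b).symm
  refine ⟨k.left, b.left, fun w' hw1' hw2' => ?_⟩
  let e : pullback z (D.map (b.left ≫ a)) ⟶ pullback z (D.map k.hom) :=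
    pullback.lift (pullback.fst _ _) (pullback.snd _ _) (by rw [hb]; exact pullback.condition)
  have he : e ≫ (bcDiagram D z).map b = w' := by
    apply pullback.hom_ext
    · refine Eq.trans ?_ hw1'.symm
      simp [e]
    · refine Eq.trans ?_ hw2'.symm
      simp [e]
  rw [← he, Category.assoc, Category.assoc, hk]

end aux

variable (D c) in
/-- stage `j` over stage `i` -/
abbrev T {i j : I} (a : j ⟶ i) : Over (D.obj i) := Over.mk (D.map a)

variable (D c) in
/-- the limit over stage `i` -/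
abbrev TInf (i : I) : Over (D.obj i) := Over.mk (c.π.app i)

variable (D c) in
/-- projection to a stage -/
def proj {i j : I} (a : j ⟶ i) : TInf D c i ⟶ T D a := Over.homMk (c.π.app j) (c.w a)

variable (D) in
/-- transition between stages -/
def tr {i j k : I} (a : j ⟶ i) (b : k ⟶ j) : T D (b ≫ a) ⟶ T D a := Over.homMk (D.map b) (D.map_comp b a).symm

@[simp] lemma proj_left {i j : I} (a : j ⟶ i) : (proj D c a).left = c.π.app j := rfl
@[simp] lemma tr_left {i j k : I} (a : j ⟶ i) (b : k ⟶ j) : (tr D a b).left = D.map b := rfl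

@[simp, reassoc] lemma proj_tr {i j k : I} (a : j ⟶ i) (b : k ⟶ j) :
    proj D c (b ≫ a) ≫ tr D a b = proj D c a := by
  ext1
  exact c.w b

variable [IsCofiltered I] [∀ (i j : I) (f : i ⟶ j), IsAffineHom (D.map f)]
    [∀ i, CompactSpace (D.obj i)]

/-- Families of morphisms parametrised by the limit come from a stage. -/
theorem exists_factor [∀ i, QuasiSeparatedSpace (D.obj i)] (hc : IsLimit c) {i : I} (Z G : Over (D.obj i))
    [LocallyOfFinitePresentation G.hom]
    [QuasiCompact Z.hom] [QuasiSeparated Z.hom] (u : Z ⊗ TInf D c i ⟶ G) :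
    ∃ (j : I) (a : j ⟶ i) (v : Z ⊗ T D a ⟶ G), Z ◁ proj D c a ≫ v = u := by
  obtain ⟨j, a, v, h1, h2⟩ := factor_aux hc Z.hom G.hom u.left (Over.w u)
  refine ⟨j, a, Over.homMk v h1, ?_⟩
  ext1
  exact h2 (Z ◁ proj D c a).left (Over.whiskerLeft_left_fst _) (Over.whiskerLeft_left_snd _)

/-- Equality of families of morphisms parametrised by the limit holds at a stage. -/
theorem exists_eq (hc : IsLimit c) {i : I} (Z G : Over (D.obj i)) [LocallyOfFiniteType G.hom]
    [QuasiCompact Z.hom] {j : I} (a : j ⟶ i) (u v : Z ⊗ T D a ⟶ G)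
    (h : Z ◁ proj D c a ≫ u = Z ◁ proj D c a ≫ v) :
    ∃ (k : I) (b : k ⟶ j), Z ◁ tr D a b ≫ u = Z ◁ tr D a b ≫ v := by
  obtain ⟨k, b, hk⟩ := eq_aux hc Z.hom G.hom a u.left v.left (Over.w u) (Over.w v)
    (Z ◁ proj D c a).left (Over.whiskerLeft_left_fst _) (Over.whiskerLeft_left_snd _)
    (congrArg (fun k => k.left) h)
  refine ⟨k, b, ?_⟩
  ext1
  exact hk (Z ◁ tr D a b).left (Over.whiskerLeft_left_fst _) (Over.whiskerLeft_left_snd _)

/-- Families of points parametrised by the limit come from a stage. -/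
theorem exists_factor' [∀ i, QuasiSeparatedSpace (D.obj i)] (hc : IsLimit c) {i : I} (G : Over (D.obj i))
    [LocallyOfFinitePresentation G.hom] (u : TInf D c i ⟶ G) :
    ∃ (j : I) (a : j ⟶ i) (v : T D a ⟶ G), proj D c a ≫ v = u := by
  have i1 : QuasiCompact (𝟙_ (Over (D.obj i))).hom := inferInstanceAs (QuasiCompact (𝟙 (D.obj i)))
  have i2 : QuasiSeparated (𝟙_ (Over (D.obj i))).hom := inferInstanceAs (QuasiSeparated (𝟙 (D.obj i)))
  obtain ⟨j, a, v, hv⟩ := exists_factor hc (𝟙_ _) G ((λ_ _).hom ≫ u)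
  refine ⟨j, a, (λ_ _).inv ≫ v, ?_⟩
  rw [leftUnitor_inv_naturality_assoc, hv, Iso.inv_hom_id_assoc]

end Groth.Agent.Sga3.H806.StageHom
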