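import Groth.Agent.Sga3.H806.LawCmp
import Groth.Agent.Sga3.H806.StageHom
import Groth.Agent.CalgA.LimFP2

/-!
# Approximation of group schemes of finite presentation

`exists_stage`: `c.pt` the limit of a cofiltered system `D` of quasi-compact quasi-separated schemes with affine transition
maps, `X` a group scheme of finite presentation over `c.pt`.  Then `X` is the base change of a group scheme of finite
presentation over some `D.obj k`.
-/

set_option autoImplicit false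
universe u

open CategoryTheory MonoidalCategory CartesianMonoidalCategory AlgebraicGeometry Limits

namespace Groth.Agent.Sga3.H806.Approx

open Groth.Agent.Sga3.H806.Law Groth.Agent.Sga3.H806.LawOf Groth.Agent.Sga3.H806.LawCmp
  Groth.Agent.Sga3.H806.StageHom

variable {I : Type u} [SmallCategory I] {D : I ⥤ Scheme.{u}} {c : Cone D}

variable (D) in
/-- transition between stages, flexible form -/
def tr' {i j k : I} {a : j ⟶ i} {b : k ⟶ i} (g : k ⟶ j) (w : g ≫ a = b) : T D b ⟶ T D a :=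
  Over.homMk (D.map g) (by rw [← w]; exact (D.map_comp g a).symm)

@[simp, reassoc] lemma proj_tr' {i j k : I} {a : j ⟶ i} {b : k ⟶ i} (g : k ⟶ j) (w : g ≫ a = b) :
    proj D c b ≫ tr' D g w = proj D c a := by
  ext1
  exact c.w g

section

variable {S : Scheme.{u}} (G H : Over S)

lemma quasiCompact_tensor [QuasiCompact G.hom] [QuasiCompact H.hom] : QuasiCompact (G ⊗ H).hom := by
  rw [Over.tensorObj_hom]
  infer_instance

lemma quasiSeparated_tensor [QuasiSeparated G.hom] [QuasiSeparated H.hom] : QuasiSeparated (G ⊗ H).hom := by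
  rw [Over.tensorObj_hom]
  infer_instance

end

variable [IsCofiltered I] [∀ (i j : I) (f : i ⟶ j), IsAffineHom (D.map f)]
    [∀ i, CompactSpace (D.obj i)] [∀ i, QuasiSeparatedSpace (D.obj i)]

/-- Descent of the data of a law. -/
theorem exists_law (hc : IsLimit c) {i : I} (G : Over (D.obj i)) [LocallyOfFinitePresentation G.hom]
    [QuasiCompact G.hom] [QuasiSeparated G.hom] (M : Law G (TInf D c i)) :
    ∃ (j : I) (a : j ⟶ i) (L : Law G (T D a)), L.res (proj D c a) = M := by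
  have i1 := quasiCompact_tensor G G
  have i2 := quasiSeparated_tensor G G
  obtain ⟨j1, a1, v1, h1⟩ := exists_factor hc (G ⊗ G) G M.mul
  obtain ⟨j2, a2, v2, h2⟩ := exists_factor' hc G M.one
  obtain ⟨j3, a3, v3, h3⟩ := exists_factor hc G G M.inv
  obtain ⟨j4, g1, g2, h4⟩ := IsCofiltered.cospan a1 a2
  obtain ⟨j5, g3, g4, h5⟩ := IsCofiltered.cospan (g1 ≫ a1) a3
  have w1 : (g3 ≫ g1) ≫ a1 = g3 ≫ g1 ≫ a1 := Category.assoc _ _ _
  have w2 : (g3 ≫ g2) ≫ a2 = g3 ≫ g1 ≫ a1 := by rw [Category.assoc, h4]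
  have w3 : g4 ≫ a3 = g3 ≫ g1 ≫ a1 := h5.symm
  refine ⟨j5, g3 ≫ g1 ≫ a1, ⟨(G ⊗ G) ◁ tr' D _ w1 ≫ v1, tr' D _ w2 ≫ v2, G ◁ tr' D _ w3 ≫ v3⟩, ?_⟩
  have e : M = ⟨M.mul, M.one, M.inv⟩ := rfl
  rw [e]
  unfold Law.res
  congr 1
  · change _ ◁ _ ≫ _ ◁ _ ≫ v1 = _
    rw [← MonoidalCategory.whiskerLeft_comp_assoc, proj_tr', h1]
  · change _ ≫ _ ≫ v2 = _
    rw [proj_tr'_assoc, h2]
  · change _ ◁ _ ≫ _ ◁ _ ≫ v3 = _
    rw [← MonoidalCategory.whiskerLeft_comp_assoc, proj_tr', h3]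

/-- Descent of a group law. -/
theorem exists_isGrp (hc : IsLimit c) {i : I} (G : Over (D.obj i)) [LocallyOfFinitePresentation G.hom]
    [QuasiCompact G.hom] [QuasiSeparated G.hom] (M : Law G (TInf D c i)) (hM : M.IsGrp) :
    ∃ (j : I) (a : j ⟶ i) (L : Law G (T D a)), L.res (proj D c a) = M ∧ L.IsGrp := by
  obtain ⟨h1, h2, h3⟩ := M.isGrp_iff.mp hM
  have i1 := quasiCompact_tensor G G
  have i2 := quasiCompact_tensor (G ⊗ G) G
  obtain ⟨j, a, L, hL⟩ := exists_law hc G M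
  -- associativity
  obtain ⟨j1, b1, e1⟩ := exists_eq hc ((G ⊗ G) ⊗ G) G a L.assocL L.assocR (by
    rw [L.whisker_assocL, L.whisker_assocR, hL, h1])
  rw [L.whisker_assocL, L.whisker_assocR] at e1
  obtain ⟨L1, hL1, hL1'⟩ : ∃ L1 : Law G (T D (b1 ≫ a)), L1.res (proj D c (b1 ≫ a)) = M ∧ L1.assocL = L1.assocR :=
    ⟨L.res (tr D a b1), by rw [L.res_res, proj_tr, hL], e1⟩
  -- unit
  obtain ⟨j2, b2, e2⟩ := exists_eq hc G G (b1 ≫ a) L1.unitL (fst _ _) (by
    rw [L1.whisker_unitL, hL1, h2, whiskerLeft_fst])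
  rw [L1.whisker_unitL, whiskerLeft_fst] at e2
  obtain ⟨L2, hL2, hL2', hL2''⟩ : ∃ L2 : Law G (T D (b2 ≫ b1 ≫ a)), L2.res (proj D c (b2 ≫ b1 ≫ a)) = M ∧
      L2.assocL = L2.assocR ∧ L2.unitL = fst _ _ :=
    ⟨L1.res (tr D _ b2), by rw [L1.res_res, proj_tr, hL1], by
      rw [← L1.whisker_assocL, ← L1.whisker_assocR, hL1'], e2⟩
  -- inverse
  obtain ⟨j3, b3, e3⟩ := exists_eq hc G G (b2 ≫ b1 ≫ a) L2.invL L2.invR (by
    rw [L2.whisker_invL, L2.whisker_invR, hL2, h3])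
  rw [L2.whisker_invL, L2.whisker_invR] at e3
  refine ⟨j3, _, L2.res (tr D _ b3), by rw [L2.res_res, proj_tr, hL2], (Law.isGrp_iff _).mpr ⟨?_, ?_, e3⟩⟩
  · rw [← L2.whisker_assocL, ← L2.whisker_assocR, hL2']
  · rw [← L2.whisker_unitL, hL2'', whiskerLeft_fst]

/-- **Approximation of group schemes of finite presentation.** -/
theorem exists_stage (hc : IsLimit c) (X : Over c.pt) [GrpObj X] [LocallyOfFinitePresentation X.hom]
    [QuasiCompact X.hom] [QuasiSeparated X.hom] :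
    ∃ (k : I) (G : Over (D.obj k)) (_ : GrpObj G), LocallyOfFinitePresentation G.hom ∧ QuasiCompact G.hom ∧
      QuasiSeparated G.hom ∧ Nonempty (Grp.mk (Red.bc (c.π.app k) G) ≅ Grp.mk X) := by
  obtain ⟨i, ⟨M⟩⟩ := Groth.Agent.CalgA.LimFP.Mdl.exists_model hc X.hom
  let G₀ : Over (D.obj i) := Over.mk M.f
  have i1 : LocallyOfFinitePresentation G₀.hom := M.lfp
  have i2 : QuasiCompact G₀.hom := M.qc
  have i3 : QuasiSeparated G₀.hom := M.qs
  have hX : IsPullback M.p X.hom G₀.hom (c.π.app i) := M.h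
  obtain ⟨k, a, L, h1, h2⟩ := exists_isGrp hc G₀ (lawOf hX) (isGrp_lawOf hX)
  refine ⟨k, Red.bc (D.map a) G₀, grpObj h2, ?_, ?_, ?_, nonempty_iso (proj D c a) hX h2 h1⟩
  · exact MorphismProperty.pullback_snd _ _ i1
  · exact MorphismProperty.pullback_snd _ _ i2
  · exact MorphismProperty.pullback_snd _ _ i3

end Groth.Agent.Sga3.H806.Approx
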