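import Groth.Agent.Smoothlim.FlatDescend
import Mathlib.RingTheory.Smooth.Locus
import Mathlib.AlgebraicGeometry.Morphisms.Smooth

/-!
# Smoothness descends from a cofiltered limit to a stage
-/

set_option autoImplicit false
universe u

open CategoryTheory CategoryTheory.Limits AlgebraicGeometry TensorProduct

namespace Groth.Agent.Sga3.H806.SmoothDescend

open Groth.Agent.Smoothlim.LimBase Groth.Agent.Smoothlim.FlatColim Groth.Agent.Smoothlim.UltraVal
  Groth.Agent.Etbase.FlatStage

/-- smoothness of the localization gives smoothness at all primes disjoint from `T`. -/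
lemma smooth_of_disjoint {E BE A' BA : Type*} [CommRing E] [CommRing BE] [CommRing A'] [CommRing BA]
    [Algebra E BE] [Algebra E A'] [Algebra BE BA] [Algebra A' BA] [Algebra E BA]
    [IsScalarTower E BE BA] [IsScalarTower E A' BA]
    (T : Submonoid E) [IsLocalization T A']
    [IsLocalization (Algebra.algebraMapSubmonoid BE T) BA] [Algebra.FormallySmooth A' BA]
    (q : PrimeSpectrum BE) (hq : Disjoint (Algebra.algebraMapSubmonoid BE T : Set BE) q.asIdeal) :
    q ∈ Algebra.smoothLocus E BE := by
  have hle : Algebra.algebraMapSubmonoid BE T ≤ q.asIdeal.primeCompl := by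
    intro x hx
    exact fun h => Set.disjoint_left.mp hq hx h
  have h0 : Algebra.FormallySmooth E A' := .of_isLocalization T
  have h1 : Algebra.FormallySmooth E BA := .comp E A' BA
  let L := Localization.AtPrime q.asIdeal
  let alg : Algebra BA L := IsLocalization.localizationAlgebraOfSubmonoidLe BA L
    (Algebra.algebraMapSubmonoid BE T) q.asIdeal.primeCompl hle
  have : IsScalarTower BE BA L := IsLocalization.localization_isScalarTower_of_submonoid_le BA L
    (Algebra.algebraMapSubmonoid BE T) q.asIdeal.primeCompl hle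
  have : IsLocalization (q.asIdeal.primeCompl.map (algebraMap BE BA)) L :=
    IsLocalization.isLocalization_of_submonoid_le BA L
    (Algebra.algebraMapSubmonoid BE T) q.asIdeal.primeCompl hle
  have : Algebra.FormallySmooth BA L := .of_isLocalization (q.asIdeal.primeCompl.map (algebraMap BE BA))
  have : IsScalarTower E BA L := by
    refine IsScalarTower.of_algebraMap_eq' ?_
    rw [IsScalarTower.algebraMap_eq E BE L, IsScalarTower.algebraMap_eq BE BA L,
      IsScalarTower.algebraMap_eq E BE BA, RingHom.comp_assoc]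
  exact (Algebra.FormallySmooth.comp E BA L : Algebra.FormallySmooth E L)

/-- the converse. -/
lemma smooth_of_forall_disjoint {E BE A' BA : Type*} [CommRing E] [CommRing BE] [CommRing A']
    [CommRing BA]
    [Algebra E BE] [Algebra E A'] [Algebra BE BA] [Algebra A' BA] [Algebra E BA]
    [IsScalarTower E BE BA] [IsScalarTower E A' BA] [Algebra.FinitePresentation A' BA]
    (T : Submonoid E) [IsLocalization T A']
    [IsLocalization (Algebra.algebraMapSubmonoid BE T) BA]
    (H : ∀ q : PrimeSpectrum BE, Disjoint (Algebra.algebraMapSubmonoid BE T : Set BE) q.asIdeal →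
      q ∈ Algebra.smoothLocus E BE) :
    Algebra.FormallySmooth A' BA := by
  rw [← Algebra.smoothLocus_eq_univ_iff]
  ext P
  simp only [Set.mem_univ, iff_true]
  let L := Localization.AtPrime P.asIdeal
  have : IsScalarTower BE BA L := inferInstance
  have : IsLocalization.AtPrime L (P.asIdeal.comap (algebraMap BE BA)) :=
    IsLocalization.isLocalization_isLocalization_atPrime_isLocalization
      (Algebra.algebraMapSubmonoid BE T) L P.asIdeal
  have : IsScalarTower E BA L := inferInstance
  have : IsScalarTower E BE L := by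
    refine IsScalarTower.of_algebraMap_eq' ?_
    rw [IsScalarTower.algebraMap_eq E BA L, IsScalarTower.algebraMap_eq BE BA L,
      IsScalarTower.algebraMap_eq E BE BA, RingHom.comp_assoc]
  have : IsScalarTower E A' L := by
    refine IsScalarTower.of_algebraMap_eq' ?_
    rw [IsScalarTower.algebraMap_eq E BA L, IsScalarTower.algebraMap_eq A' BA L,
      IsScalarTower.algebraMap_eq E A' BA, RingHom.comp_assoc]
  have h := H ⟨P.asIdeal.comap (algebraMap BE BA), inferInstance⟩ ?_
  · have h1 : Algebra.FormallySmooth E L := by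
      refine (Algebra.FormallySmooth.iff_of_equiv ?_).mp h
      exact (IsLocalization.algEquiv (P.asIdeal.comap (algebraMap BE BA)).primeCompl _ L).restrictScalars E
    exact (Algebra.FormallySmooth.localization_base T : Algebra.FormallySmooth A' L)
  · rw [Set.disjoint_left]
    intro x hx hx'
    have := IsLocalization.map_units BA (⟨x, hx⟩ : Algebra.algebraMapSubmonoid BE T)
    exact P.2.ne_top (Ideal.eq_top_of_isUnit_mem _ hx' this)

/-- Openness of the smooth locus: if `A' = T⁻¹E` and `A' ⊗[B] C` is smooth over `A'`, then there is `t ∈ T` such that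
`A'' ⊗[B] C` is smooth over `A''` for every localization `A''` of `E` in which `t` becomes invertible. -/
lemma exists_mem_smooth {B E A' C : Type u} [CommRing B] [CommRing E] [CommRing A'] [CommRing C]
    [Algebra B E] [Algebra B A'] [Algebra B C] [Algebra.FinitePresentation B C]
    (φ : E →ₐ[B] A') (T : Submonoid E)
    (hT : letI : Algebra E A' := φ.toRingHom.toAlgebra; IsLocalization T A')
    [Algebra.FormallySmooth A' (A' ⊗[B] C)] :
    ∃ t ∈ T, ∀ (A'' : Type u) [CommRing A''] [Algebra B A''] (ψ : E →ₐ[B] A'') (S : Submonoid E)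
      (_ : letI : Algebra E A'' := ψ.toRingHom.toAlgebra; IsLocalization S A'') (s : E) (_ : s ∈ S)
      (_ : t ∣ s), Algebra.FormallySmooth A'' (A'' ⊗[B] C) := by
  let BE := E ⊗[B] C
  let U : Set (PrimeSpectrum BE) := Algebra.smoothLocus E BE
  have hU : IsOpen U := Algebra.isOpen_smoothLocus
  have h1 : ∀ q : PrimeSpectrum BE,
      Disjoint (Algebra.algebraMapSubmonoid BE T : Set BE) q.asIdeal → q ∈ U := by
    intro q hq
    let : Algebra E A' := φ.toRingHom.toAlgebra
    let : Algebra BE (A' ⊗[B] C) := (Algebra.TensorProduct.map φ (AlgHom.id B C)).toRingHom.toAlgebra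
    have : IsLocalization T A' := hT
    have h0 : IsLocalization (Algebra.algebraMapSubmonoid BE T) (A' ⊗[B] C) :=
      tensor_isLocalization φ T hT
    have : IsScalarTower E BE (A' ⊗[B] C) := by
      refine .of_algebraMap_eq' (R := E) (S := BE) (A := A' ⊗[B] C) ?_
      ext x
      rfl
    exact smooth_of_disjoint (E := E) (BE := BE) (A' := A') (BA := A' ⊗[B] C) T q hq
  obtain ⟨_, ⟨t, ht, rfl⟩, hs⟩ := exists_mem_of_isOpen (BE := BE) _ U hU h1
  refine ⟨t, ht, fun A'' _ _ ψ S hS s hsS hts ↦ ?_⟩
  let : Algebra E A'' := ψ.toRingHom.toAlgebra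
  let : Algebra BE (A'' ⊗[B] C) :=
    (Algebra.TensorProduct.map ψ (AlgHom.id B C)).toRingHom.toAlgebra
  have : IsLocalization S A'' := hS
  have : IsLocalization (Algebra.algebraMapSubmonoid BE S) (A'' ⊗[B] C) :=
    tensor_isLocalization ψ S this
  have : IsScalarTower E BE (A'' ⊗[B] C) := by
    refine .of_algebraMap_eq' (R := E) (S := BE) (A := A'' ⊗[B] C) ?_
    ext x
    rfl
  refine smooth_of_forall_disjoint (E := E) (BE := BE) (A' := A'') (BA := A'' ⊗[B] C) S fun q hq => ?_
  refine hs q fun hmem => ?_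
  have hd := Set.disjoint_left.mp hq
  obtain ⟨r, rfl⟩ := hts
  exact hd ⟨t * r, hsS, rfl⟩ (by rw [map_mul]; exact q.asIdeal.mul_mem_right _ hmem)

/-- smoothness is preserved by base change `A → A'` for `A ⊗[B] C`. -/
lemma smooth_baseChange {B A A' C : Type u} [CommRing B] [CommRing A] [CommRing A'] [CommRing C]
    [Algebra B A] [Algebra B A'] [Algebra A A'] [IsScalarTower B A A'] [Algebra B C]
    [Algebra.FormallySmooth A (A ⊗[B] C)] : Algebra.FormallySmooth A' (A' ⊗[B] C) :=
  .of_equiv (Algebra.TensorProduct.cancelBaseChange B A A' A' C)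

theorem exists_smooth {α : Type u} [PartialOrder α] [IsDirected α (· ≤ ·)] [Nonempty α]
    (F : α ⥤ CommRingCat.{u}) (c : Cocone F) (hc : IsColimit c) (B : Type u) [CommRing B]
    [∀ i, Algebra B (F.obj i)] (ht : ∀ i j (h : i ≤ j) (x : B),
      (F.map (homOfLE h)).hom (algebraMap B (F.obj i) x) = algebraMap B (F.obj j) x)
    [Algebra B c.pt] (hb : ∀ i (x : B), (c.ι.app i).hom (algebraMap B (F.obj i) x) = algebraMap B c.pt x)
    (C : Type u) [CommRing C] [Algebra B C] [Algebra.FinitePresentation B C]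
    [H : Algebra.FormallySmooth c.pt (c.pt ⊗[B] C)] : ∃ i, Algebra.FormallySmooth (F.obj i) (F.obj i ⊗[B] C) := by
  classical
  let 𝒰 : Ultrafilter α := Ultrafilter.of Filter.atTop
  have h𝒰 : (𝒰 : Filter α) ≤ Filter.atTop := Ultrafilter.of_le _
  let R (i : α) : Type u := F.obj i
  let θ : c.pt ⟶ .of (UProd 𝒰 R) := hc.desc (thetaCocone F 𝒰 h𝒰 R (fun i ↦ 𝟙 _))
  have hθ (i : α) : c.ι.app i ≫ θ = CommRingCat.ofHom (theta F 𝒰 h𝒰 R (fun i ↦ 𝟙 _) i) :=
    hc.fac (thetaCocone F 𝒰 h𝒰 R (fun i ↦ 𝟙 _)) i
  let : Algebra c.pt (UProd 𝒰 R) := θ.hom.toAlgebra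
  have hsc : IsScalarTower B c.pt (UProd 𝒰 R) := by
    refine .of_algebraMap_eq fun x ↦ ?_
    obtain ⟨i⟩ := ‹Nonempty α›
    rw [← hb i]
    have := congr($(hθ i).hom (algebraMap B (F.obj i) x))
    refine Eq.trans ?_ this.symm
    exact (theta_eq_mk F 𝒰 h𝒰 R (fun i ↦ 𝟙 _) i (algebraMap B (F.obj i) x)
      (fun j ↦ algebraMap B (F.obj j) x) (fun j hij ↦ ht i j hij x)).symm
  have hsm : Algebra.FormallySmooth (UProd 𝒰 R) (UProd 𝒰 R ⊗[B] C) := smooth_baseChange (A := c.pt)
  let φ : (Π i, R i) →ₐ[B] UProd 𝒰 R :=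
    { Ideal.Quotient.mk (zeroIdeal 𝒰 R) with commutes' := fun x ↦ rfl }
  obtain ⟨_, ⟨S, hS, rfl⟩, h⟩ := exists_mem_smooth (C := C) φ (T 𝒰 R) (isLocalization_T 𝒰 R)
  obtain ⟨i, hi⟩ := 𝒰.nonempty_of_mem hS
  refine ⟨i, ?_⟩
  let ψ : (Π i, R i) →ₐ[B] F.obj i := { Pi.evalRingHom R i with commutes' := fun x ↦ rfl }
  refine h (F.obj i) ψ (Submonoid.powers (Pi.single i 1 : Π i, R i)) (isLocalization_eval R i) _
    (Submonoid.mem_powers _) ⟨Pi.single i 1, ?_⟩
  ext j
  by_cases h : j = i
  · subst h; simp [hi]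
  · simp [h]

theorem descendsRing_smooth : DescendsRing.{u} @LocallyOfFinitePresentation @Smooth := by
  intro α _ _ _ F c hc B t ht b hb C γ hQ hP
  have hγ : γ.hom.FinitePresentation :=
    HasRingHomProperty.Spec_iff (P := @LocallyOfFinitePresentation).mp hQ
  let : Algebra B C := γ.hom.toAlgebra
  let (i : α) : Algebra B (F.obj i) := (t i).hom.toAlgebra
  let : Algebra B c.pt := b.hom.toAlgebra
  have : Algebra.FinitePresentation B C := hγ
  have h1 : Algebra.Smooth c.pt (c.pt ⊗[B] C) := by
    have := (snd_specMap_iff (P := @Smooth) (B := B) (C := C) (A := c.pt)).mp hP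
    rwa [RingHom.smooth_algebraMap] at this
  obtain ⟨i, hi⟩ := exists_smooth F c hc B (fun i j h x ↦ congr($(ht i j h).hom x))
    (fun i x ↦ congr($(hb i).hom x)) C
  refine ⟨i, (snd_specMap_iff (P := @Smooth) (B := B) (C := C) (A := F.obj i)).mpr ?_⟩
  rw [RingHom.smooth_algebraMap]
  exact ⟨hi, inferInstance⟩

theorem descendsAffine_smooth :
    DescendsAffine.{u} (@LocallyOfFinitePresentation ⊓ @QuasiCompact) @Smooth :=
  descendsAffine_of_descendsRing descendsRing_smooth

end Groth.Agent.Sga3.H806.SmoothDescend
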