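import Groth.Agent.Sga3.H806.Approx
import Groth.Agent.Sga3.H806.SmoothDescend
import Groth.Agent.Sga3B.BcIso
import Groth.Agent.Flat2D.SpecFGLimit

/-!
# Approximation of group schemes of finite presentation, with properties

`exists_stage_prop`: the group over the stage may be taken with a property `P` that descends along limits
(`DescendsAffine`), e.g. smooth, separated.  `exists_noetherian`, `exists_noetherian_smooth`: approximation over a
ring of finite type over `ℤ`.
-/

set_option autoImplicit false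
universe u

open CategoryTheory MonoidalCategory CartesianMonoidalCategory AlgebraicGeometry Limits

namespace Groth.Agent.Sga3.H806.ApproxProp

open Groth.Agent.Sga3.H806.Approx Groth.Agent.Smoothlim.LimBase

variable {I : Type u} [SmallCategory I] {D : I ⥤ Scheme.{u}} {c : Cone D} [IsCofiltered I]
  [∀ (i j : I) (f : i ⟶ j), IsAffineHom (D.map f)]

lemma prop_of_iso (P : MorphismProperty Scheme.{u}) [P.RespectsIso] {S : Scheme.{u}} {G H : Over S} [GrpObj G]
    [GrpObj H] (e : Nonempty (Grp.mk G ≅ Grp.mk H)) (h : P G.hom) : P H.hom := by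
  obtain ⟨e⟩ := e
  let e' : G ≅ H := (Grp.forget _).mapIso e
  have hl' : IsIso e'.inv.left := inferInstanceAs (IsIso ((Over.forget _).map e'.inv))
  rw [← Over.w e'.inv]
  exact (P.cancel_left_of_respectsIso _ _).mpr h

omit [IsCofiltered I] [∀ (i j : I) (f : i ⟶ j), IsAffineHom (D.map f)] in
/-- Moving a group to a further stage. -/
lemma nonempty_iso_up {X : Over c.pt} [GrpObj X] {k k' : I} (φ : k' ⟶ k) (G : Over (D.obj k)) [GrpObj G]
    (e : Nonempty (Grp.mk (Red.bc (c.π.app k) G) ≅ Grp.mk X)) :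
    Nonempty (Grp.mk (Red.bc (c.π.app k') (Red.bc (D.map φ) G)) ≅ Grp.mk X) := by
  obtain ⟨e⟩ := e
  exact ⟨(Groth.Agent.Sga3B.BcIso.bcCompIso (c.π.app k') (D.map φ) G).symm ≪≫
    Groth.Agent.Sga3B.BcIso.bcCongrIso (c.w φ) G ≪≫ e⟩

theorem exists_up_prop {P Q : MorphismProperty Scheme.{u}} [P.IsStableUnderBaseChange]
    [IsZariskiLocalAtTarget P] [Q.IsStableUnderBaseChange] (hA : DescendsAffine Q P)
    (hc : IsLimit c) {k : I} [CompactSpace (D.obj k)] (G : Over (D.obj k)) (hQ : Q G.hom)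
    (hP : P (Red.bc (c.π.app k) G).hom) : ∃ (k' : I) (φ : k' ⟶ k), P (Red.bc (D.map φ) G).hom := by
  have hX : IsPullback (pullback.fst G.hom (c.π.app k)) (Red.bc (c.π.app k) G).hom G.hom (c.π.app k) :=
    IsPullback.of_hasPullback _ _
  have hY : IsPullback (c.π.app k) (𝟙 c.pt) (𝟙 (D.obj k)) (c.π.app k) := IsPullback.id_vert (c.π.app k)
  obtain ⟨i, φ, hi⟩ := exists_descend hA D c hc k
    (Y₀ := D.obj k) (Y := c.pt) (f₀ := G.hom) (g₀ := 𝟙 (D.obj k)) (f := (Red.bc (c.π.app k) G).hom) (g := 𝟙 c.pt)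
    (qY := c.π.app k) (qX := pullback.fst G.hom (c.π.app k)) hY hX hQ hP
  refine ⟨i, φ, ?_⟩
  have h1 : D.map φ = inv (pullback.snd (𝟙 (D.obj k)) (D.map φ)) ≫ pullback.fst (𝟙 (D.obj k)) (D.map φ) := by
    rw [IsIso.eq_inv_comp]
    have := pullback.condition (f := 𝟙 (D.obj k)) (g := D.map φ)
    rw [← this, Category.comp_id]
  change P (pullback.snd G.hom (D.map φ))
  rw [h1]
  exact snd_comp P G.hom _ _ hi

/-- **Approximation of group schemes of finite presentation with a property `P`.** -/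
theorem exists_stage_prop {P : MorphismProperty Scheme.{u}} [P.IsStableUnderBaseChange]
    [IsZariskiLocalAtTarget P] {Q : MorphismProperty Scheme.{u}} [Q.IsStableUnderBaseChange]
    (hQ : ∀ {X Y : Scheme.{u}} (f : X ⟶ Y), LocallyOfFinitePresentation f → QuasiCompact f → QuasiSeparated f → Q f)
    (hA : DescendsAffine Q P) [∀ i, CompactSpace (D.obj i)] [∀ i, QuasiSeparatedSpace (D.obj i)]
    (hc : IsLimit c) (X : Over c.pt) [GrpObj X] [LocallyOfFinitePresentation X.hom]
    [QuasiCompact X.hom] [QuasiSeparated X.hom] (hP : P X.hom) :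
    ∃ (k : I) (G : Over (D.obj k)) (_ : GrpObj G), LocallyOfFinitePresentation G.hom ∧ QuasiCompact G.hom ∧
      QuasiSeparated G.hom ∧ P G.hom ∧ Nonempty (Grp.mk (Red.bc (c.π.app k) G) ≅ Grp.mk X) := by
  obtain ⟨k, G, _, h1, h2, h3, h4⟩ := exists_stage hc X
  obtain ⟨k', φ, h5⟩ := exists_up_prop hA hc G (hQ _ h1 h2 h3)
    (prop_of_iso P (by obtain ⟨e⟩ := h4; exact ⟨e.symm⟩) hP)
  exact ⟨k', Red.bc (D.map φ) G, inferInstance, MorphismProperty.pullback_snd _ _ h1,
    MorphismProperty.pullback_snd _ _ h2, MorphismProperty.pullback_snd _ _ h3, h5, nonempty_iso_up φ G h4⟩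

section Spec

open Groth.Agent.Flat2D.SpecFGLimit

variable {R : Type u} [CommRing R]

/-- **Noetherian approximation** of group schemes of finite presentation over a ring, with a property. -/
theorem exists_noetherian_prop {P : MorphismProperty Scheme.{u}} [P.IsStableUnderBaseChange]
    [IsZariskiLocalAtTarget P] {Q : MorphismProperty Scheme.{u}} [Q.IsStableUnderBaseChange]
    (hQ : ∀ {X Y : Scheme.{u}} (f : X ⟶ Y), LocallyOfFinitePresentation f → QuasiCompact f → QuasiSeparated f → Q f)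
    (hA : DescendsAffine Q P) (X : Over (Spec (CommRingCat.of R))) [GrpObj X] [LocallyOfFinitePresentation X.hom]
    [QuasiCompact X.hom] [QuasiSeparated X.hom] (hP : P X.hom) :
    ∃ (R₀ : Subalgebra ℤ R) (G : Over (Spec (CommRingCat.of R₀))) (_ : GrpObj G), R₀.FG ∧
      LocallyOfFinitePresentation G.hom ∧ QuasiCompact G.hom ∧
      QuasiSeparated G.hom ∧ P G.hom ∧
      Nonempty (Grp.mk (Red.bc (Spec.map (CommRingCat.ofHom R₀.val.toRingHom)) G) ≅ Grp.mk X) := by
  have i1 : ∀ i, CompactSpace ((specDiagram R).obj i) := fun i => inferInstance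
  have i2 : ∀ i, QuasiSeparatedSpace ((specDiagram R).obj i) := fun i => inferInstance
  let X' : Over (specCone R).pt := X
  let gX : GrpObj X' := ‹GrpObj X›
  have iX1 : LocallyOfFinitePresentation X'.hom := ‹LocallyOfFinitePresentation X.hom›
  have iX2 : QuasiCompact X'.hom := ‹QuasiCompact X.hom›
  have iX3 : QuasiSeparated X'.hom := ‹QuasiSeparated X.hom›
  obtain ⟨k, G, hG, h1, h2, h3, h4, h5⟩ := exists_stage_prop hQ hA (isLimitSpecCone R) X' hP
  exact ⟨k.unop.1, G, hG, k.unop.2, h1, h2, h3, h4, h5⟩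

/-- Noetherian approximation of group schemes of finite presentation over a ring. -/
theorem exists_noetherian (X : Over (Spec (CommRingCat.of R))) [GrpObj X] [LocallyOfFinitePresentation X.hom]
    [QuasiCompact X.hom] [QuasiSeparated X.hom] :
    ∃ (R₀ : Subalgebra ℤ R) (G : Over (Spec (CommRingCat.of R₀))) (_ : GrpObj G), R₀.FG ∧
      LocallyOfFinitePresentation G.hom ∧ QuasiCompact G.hom ∧
      QuasiSeparated G.hom ∧
      Nonempty (Grp.mk (Red.bc (Spec.map (CommRingCat.ofHom R₀.val.toRingHom)) G) ≅ Grp.mk X) := by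
  have i1 : ∀ i, CompactSpace ((specDiagram R).obj i) := fun i => inferInstance
  have i2 : ∀ i, QuasiSeparatedSpace ((specDiagram R).obj i) := fun i => inferInstance
  let X' : Over (specCone R).pt := X
  let gX : GrpObj X' := ‹GrpObj X›
  have iX1 : LocallyOfFinitePresentation X'.hom := ‹LocallyOfFinitePresentation X.hom›
  have iX2 : QuasiCompact X'.hom := ‹QuasiCompact X.hom›
  have iX3 : QuasiSeparated X'.hom := ‹QuasiSeparated X.hom›
  obtain ⟨k, G, hG, h1, h2, h3, h5⟩ := exists_stage (isLimitSpecCone R) X'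
  exact ⟨k.unop.1, G, hG, k.unop.2, h1, h2, h3, h5⟩

/-- **Noetherian approximation of smooth group schemes** (quasi-compact, quasi-separated) over a ring. -/
theorem exists_noetherian_smooth (X : Over (Spec (CommRingCat.of R))) [GrpObj X] [Smooth X.hom]
    [QuasiCompact X.hom] [QuasiSeparated X.hom] :
    ∃ (R₀ : Subalgebra ℤ R) (G : Over (Spec (CommRingCat.of R₀))) (_ : GrpObj G), R₀.FG ∧
      Smooth G.hom ∧ QuasiCompact G.hom ∧ QuasiSeparated G.hom ∧
      Nonempty (Grp.mk (Red.bc (Spec.map (CommRingCat.ofHom R₀.val.toRingHom)) G) ≅ Grp.mk X) := by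
  obtain ⟨R₀, G, hG, h1, h2, h3, h4, h5, h6⟩ := exists_noetherian_prop (P := @Smooth)
    (Q := @LocallyOfFinitePresentation ⊓ @QuasiCompact) (fun f h1 h2 h3 => ⟨h1, h2⟩)
    Groth.Agent.Sga3.H806.SmoothDescend.descendsAffine_smooth X inferInstance
  exact ⟨R₀, G, hG, h1, h5, h3, h4, h6⟩

end Spec

end Groth.Agent.Sga3.H806.ApproxProp
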