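import Mathlib.RingTheory.Valuation.LocalSubring
import Mathlib.RingTheory.DiscreteValuationRing.Basic
import Mathlib.RingTheory.Ideal.GoingDown
import Mathlib.RingTheory.Etale.Basic
import Mathlib.FieldTheory.IsAlgClosed.AlgebraicClosure
import Mathlib.RingTheory.Localization.AtPrime.Basic
import Mathlib.AlgebraicGeometry.AffineScheme

/-!
# Auxiliary facts on (discrete) valuation rings

* `exists_valuationSubring`: `B` flat over a local domain `O`, `q` a prime of `B` over the maximal ideal: a valuation ring
  of an algebraically closed field dominating `B_q`, injective on `O`;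
* `mem_range_of_mem`: descent of integrality;
* `exists_lift_affine`: lifting points of affine schemes.
-/

set_option autoImplicit false
universe u

open AlgebraicGeometry CategoryTheory

namespace Groth.Agent.Sga3.H806.DvrAlg

open IsLocalRing

/-- A valuation ring of an algebraically closed field dominating a localisation of a flat algebra. -/
theorem exists_valuationSubring {O B : Type u} [CommRing O] [IsDomain O] [IsLocalRing O] [CommRing B] [Algebra O B]
    [Module.Flat O B] (q : Ideal B) [q.IsPrime] (hq : q.comap (algebraMap O B) = maximalIdeal O) :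
    ∃ (K : Type u) (_ : Field K) (_ : IsAlgClosed K) (A : ValuationSubring K) (ψ : B →+* A),
      IsLocalHom (ψ.comp (algebraMap O B)) ∧ Function.Injective (ψ.comp (algebraMap O B)) := by
  -- a generization over the generic point
  obtain ⟨p, hpq, hp, hp0⟩ : ∃ p : Ideal B, p ≤ q ∧ p.IsPrime ∧ p.comap (algebraMap O B) = ⊥ := by
    have h1 : (⊥ : Ideal O).IsPrime := Ideal.isPrime_bot
    have h2 : q.LiesOver (maximalIdeal O) := ⟨hq.symm⟩
    obtain ⟨p, hp1, hp2, hp3⟩ := Ideal.exists_ideal_le_liesOver_of_le (p := (⊥ : Ideal O)) (q := maximalIdeal O)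
      q bot_le
    exact ⟨p, hp1, hp2, hp3.over.symm⟩
  let K := AlgebraicClosure (FractionRing (B ⧸ p))
  let j : B →+* K := (algebraMap (B ⧸ p) K).comp (Ideal.Quotient.mk p)
  have hj : ∀ b, j b = 0 ↔ b ∈ p := by
    intro b
    change algebraMap (B ⧸ p) K (Ideal.Quotient.mk p b) = 0 ↔ _
    have hinj : Function.Injective (algebraMap (B ⧸ p) K) := by
      rw [IsScalarTower.algebraMap_eq (B ⧸ p) (FractionRing (B ⧸ p)) K]
      exact (algebraMap (FractionRing (B ⧸ p)) K).injective.comp (IsFractionRing.injective _ _)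
    rw [map_eq_zero_iff _ hinj, Ideal.Quotient.eq_zero_iff_mem]
  let L := Localization.AtPrime q
  let g : L →+* K := IsLocalization.lift (M := q.primeCompl) (g := j) (fun y => by
    rw [isUnit_iff_ne_zero, Ne, hj]
    exact fun h => y.2 (hpq h))
  obtain ⟨A, hA, hloc⟩ := exists_factor_valuationRing g
  refine ⟨K, inferInstance, inferInstance, A, (g.codRestrict A.toSubring hA).comp (algebraMap B L), ?_, ?_⟩
  · have h1 : IsLocalHom ((algebraMap B L).comp (algebraMap O B)) := by
      refine ⟨fun a ha => ?_⟩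
      by_contra h
      have h2 : a ∈ maximalIdeal O := h
      rw [← hq] at h2
      have h3 : algebraMap B L (algebraMap O B a) ∈ maximalIdeal L :=
        (IsLocalization.AtPrime.to_map_mem_maximal_iff L q _).mpr h2
      exact h3 ha
    rw [RingHom.comp_assoc]
    exact RingHom.isLocalHom_comp _ _
  · rw [injective_iff_map_eq_zero]
    intro a ha
    have h1 : j (algebraMap O B a) = 0 := by
      have h2 := congrArg (fun z : A => (z : K)) ha
      have h3 : g (algebraMap B L (algebraMap O B a)) = 0 := h2
      rwa [IsLocalization.lift_eq] at h3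
    rw [hj] at h1
    have h4 : a ∈ p.comap (algebraMap O B) := h1
    rw [hp0] at h4
    exact h4

/-- Descent of integrality along a dominating extension. -/
theorem mem_range_of_mem {O F V K : Type u} [CommRing O] [IsDomain O] [ValuationRing O] [Field F] [Algebra O F]
    [IsFractionRing O F] [CommRing V] [Nontrivial V] [Field K] (i : V →+* K) (hi : Function.Injective i)
    (φ : O →+* V) [IsLocalHom φ] (ψ : F →+* K) (hψ : ψ.comp (algebraMap O F) = i.comp φ) (z : F) (v : V)
    (hz : ψ z = i v) : ∃ a : O, algebraMap O F a = z := by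
  rcases ValuationRing.isInteger_or_isInteger O z with ⟨a, ha⟩ | ⟨a, ha⟩
  · exact ⟨a, ha⟩
  · by_cases hz0 : z = 0
    · exact ⟨0, by rw [map_zero, hz0]⟩
    have h1 : i (φ a * v) = 1 := by
      have h2 := congr($hψ a)
      simp only [RingHom.comp_apply] at h2
      rw [map_mul, ← h2, ← hz, ← map_mul, ha, inv_mul_cancel₀ hz0, map_one]
    have h2 : φ a * v = 1 := hi (h1.trans (map_one i).symm)
    have h3 : IsUnit a := isUnit_of_map_unit φ a (.of_mul_eq_one v h2)
    obtain ⟨u, rfl⟩ := h3
    refine ⟨((u⁻¹ : Oˣ) : O), ?_⟩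
    have h4 : algebraMap O F (u : O) * algebraMap O F ((u⁻¹ : Oˣ) : O) = 1 := by
      rw [← map_mul, Units.mul_inv, map_one]
    rw [ha] at h4
    calc algebraMap O F ((u⁻¹ : Oˣ) : O) = z * (z⁻¹ * algebraMap O F ((u⁻¹ : Oˣ) : O)) := by
          rw [← mul_assoc, mul_inv_cancel₀ hz0, one_mul]
      _ = z := by rw [h4, mul_one]

/-- Lifting points of affine schemes. -/
theorem exists_lift_affine {X : Scheme.{u}} [IsAffine X] {O F : CommRingCat.{u}} (i : O ⟶ F)
    (hi : Function.Injective i.hom) (x : Spec F ⟶ X)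
    (h : ∀ a : Γ(X, ⊤), (Scheme.ΓSpecIso F).hom (x.appTop a) ∈ i.hom.range) :
    ∃ l : Spec O ⟶ X, Spec.map i ≫ l = x := by
  let g : Γ(X, ⊤) ⟶ F := x.appTop ≫ (Scheme.ΓSpecIso F).hom
  choose θ hθ using h
  let θ' : Γ(X, ⊤) ⟶ O := CommRingCat.ofHom
    { toFun := θ
      map_one' := hi (by rw [hθ, map_one, map_one, map_one])
      map_mul' := fun a b => hi (by rw [map_mul, hθ, hθ, hθ, map_mul, map_mul])
      map_zero' := hi (by rw [hθ, map_zero, map_zero, map_zero])
      map_add' := fun a b => hi (by rw [map_add, hθ, hθ, hθ, map_add, map_add]) }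
  have h1 : θ' ≫ i = g := by
    ext a
    exact hθ a
  refine ⟨Spec.map θ' ≫ X.isoSpec.inv, ?_⟩
  rw [← Category.assoc, ← Spec.map_comp, h1, Iso.comp_inv_eq]
  simp only [g, Spec.map_comp]
  rw [SpecMap_ΓSpecIso_hom]
  exact (Scheme.toSpecΓ_naturality x).symm

end Groth.Agent.Sga3.H806.DvrAlg
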