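import Groth.Agent.Sga3.H806.ValPt
import Groth.Agent.Sga3.H806.DvrAlg
import Groth.Agent.Sga3B.SplitFin885
import Groth.Agent.Sga3B.IsomPin848
import Mathlib.RingTheory.RingHom.Flat
import Mathlib.AlgebraicGeometry.Morphisms.Flat

/-!
# Integral points over valuation rings

`exists_lift`: `f : G ⟶ GLS m S` a quasi-finite homomorphism, `O` a valuation ring with fraction field `F`,
`Y : Over.mk t ⟶ GLS m S`, `t : Spec O ⟶ S`, such that the base change of `G` to `Spec O` is reductive.  Every `F`-point of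
`G` over `Y` extends to an `O`-point of `G`.
-/

set_option autoImplicit false
universe u

open CategoryTheory MonoidalCategory CartesianMonoidalCategory MonObj AlgebraicGeometry Limits

namespace Groth.Agent.Sga3.H806.DvrPt

open Groth.Agent.Sga3B Groth.Agent.Sga3B.Cell Groth.Agent.Sga3B.PinMod Groth.Agent.Sga3B.BcPts
  Groth.Agent.Sga3B.GLn Groth.Agent.Sga3.H806.RepInt Groth.Agent.Sga3.H806.RepOf Groth.Agent.Sga3.H806.RepUni
  Groth.Agent.Sga3.H806.ValPt Groth.Agent.Sga3.H806.DvrAlg Groth.Agent.Sga3.H806.LawCmp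

set_option linter.unusedSectionVars false

variable {S : Scheme.{u}} {G : Over S} [GrpObj G] {m : Type u} [Fintype m] [DecidableEq m]
  (f : G ⟶ GLS m S)

/-- the matrix over `O` of a point of `GLS m S` -/
noncomputable def matO {O : Type u} [CommRing O] {t : Spec (CommRingCat.of O) ⟶ S} (Y : Over.mk t ⟶ GLS m S) :
    Matrix m m O :=
  (Scheme.ΓSpecIso (CommRingCat.of O)).hom.hom.mapMatrix (mat Y)

lemma matO_comp {O C : Type u} [CommRing O] [CommRing C] (χ : O →+* C)
    {t : Spec (CommRingCat.of O) ⟶ S} (Y : Over.mk t ⟶ GLS m S) {t' : Spec (CommRingCat.of C) ⟶ S}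
    (w : Over.mk t' ⟶ Over.mk t) (hw : w.left = Spec.map (CommRingCat.ofHom χ)) :
    (Scheme.ΓSpecIso (CommRingCat.of C)).hom.hom.mapMatrix (mat (w ≫ Y)) = (matO Y).map χ := by
  rw [mat_comp, matO, hw]
  ext i j
  exact congr($(Scheme.ΓSpecIso_naturality (CommRingCat.ofHom χ)) (mat Y i j))

lemma isUnit_det_matO {O : Type u} [CommRing O] {t : Spec (CommRingCat.of O) ⟶ S} (Y : Over.mk t ⟶ GLS m S) :
    IsUnit (matO Y).det := by
  have h1 := (isUnit_det_mat Y).map (Scheme.ΓSpecIso (CommRingCat.of O)).hom.hom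
  rwa [RingHom.map_det] at h1

lemma isDominant_specMap {O : Type u} (F : Type u) [CommRing O] [IsDomain O] [Field F] [Algebra O F]
    [IsFractionRing O F] : IsDominant (Spec.map (CommRingCat.ofHom (algebraMap O F))) := by
  constructor
  change DenseRange (PrimeSpectrum.comap (algebraMap O F))
  rw [PrimeSpectrum.denseRange_comap_iff_ker_le_nilRadical, (RingHom.injective_iff_ker_eq_bot _).1
    (IsFractionRing.injective O F)]
  exact bot_le

/-- **Integral points over valuation rings**, with the lift over `S`. -/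
theorem exists_lift' [IsMonHom f] [LocallyOfFiniteType f.left] [QuasiCompact f.left]
    [LocallyQuasiFinite f.left] {O F : Type u} [CommRing O] [IsDomain O] [ValuationRing O] [Field F] [Algebra O F]
    [IsFractionRing O F] (x : Spec (CommRingCat.of F) ⟶ G.left) (t : Spec (CommRingCat.of O) ⟶ S)
    (Y : Over.mk t ⟶ GLS m S) (h : x ≫ f.left = Spec.map (CommRingCat.ofHom (algebraMap O F)) ≫ Y.left)
    (hG : Red.IsReductive (Red.bc t G)) :
    ∃ l : Spec (CommRingCat.of O) ⟶ G.left, Spec.map (CommRingCat.ofHom (algebraMap O F)) ≫ l = x ∧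
      l ≫ G.hom = t := by
  have hYt : Y.left ≫ (GLS m S).hom = t := Over.w Y
  -- étale-local pinning
  obtain ⟨B, v, hv, ⟨u, hu⟩, ⟨D₀⟩, -⟩ := IsomPin848.exists_pinnings (Red.bc t G) (Red.bc t G)
    (IsLocalRing.closedPoint O) (SplitFin885.splitNear _ hG _) (SplitFin885.splitNear _ hG _)
  obtain ⟨φ, rfl⟩ := Spec.map_surjective v
  let D : Red.Pinning (Red.bc (Spec.map φ ≫ t) G) :=
    SplitIso848.pinOfIso (BcIso.bcCompIso (Spec.map φ) t G).symm D₀
  algebraize [φ.hom]
  have hflat : Module.Flat O B := by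
    have h1 : Flat (Spec.map φ) := inferInstance
    have h2 := (HasRingHomProperty.Spec_iff (P := @Flat) (φ := φ)).mp h1
    exact h2
  have hq : u.asIdeal.comap (algebraMap O B) = IsLocalRing.maximalIdeal O := congrArg (fun p => p.asIdeal) hu
  obtain ⟨K, _, _, A, ψ, hloc, hinj⟩ := exists_valuationSubring u.asIdeal hq
  -- `F → K`
  let i : A →+* K := algebraMap A K
  have hinj' : Function.Injective ((i.comp ψ).comp (algebraMap O B)) :=
    (IsFractionRing.injective A K).comp hinj
  let ε : F →+* K := IsFractionRing.lift hinj'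
  have hε : ε.comp (algebraMap O F) = (i.comp ψ).comp (algebraMap O B) := by
    ext a
    exact IsFractionRing.lift_algebraMap hinj' a
  let s : Spec (CommRingCat.of A) ⟶ Spec B := Spec.map (CommRingCat.ofHom ψ)
  let q : Spec B ⟶ S := Spec.map φ ≫ t
  -- the `K`-point
  let w : (Over.map q).obj (tB (R := A) s K) ⟶ Over.mk t :=
    Over.homMk (Spec.map (CommRingCat.ofHom ((i.comp ψ).comp (algebraMap O B)))) (by
      change Spec.map (CommRingCat.ofHom ((i.comp ψ).comp φ.hom)) ≫ t =
        (Spec.map (CommRingCat.ofHom (algebraMap A K)) ≫ Spec.map (CommRingCat.ofHom ψ)) ≫ Spec.map φ ≫ t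
      rw [← Spec.map_comp, ← Category.assoc, ← Spec.map_comp]
      rfl)
  have hxt : x ≫ G.hom = Spec.map (CommRingCat.ofHom (algebraMap O F)) ≫ t := by
    rw [← Over.w f, ← Category.assoc, h, Category.assoc, hYt]
  have hεw : Spec.map (CommRingCat.ofHom ε) ≫ Spec.map (CommRingCat.ofHom (algebraMap O F)) = w.left := by
    change _ = Spec.map (CommRingCat.ofHom ((i.comp ψ).comp (algebraMap O B)))
    rw [← Spec.map_comp, ← CommRingCat.ofHom_comp, hε]
  let z' : (Over.map q).obj (tB (R := A) s K) ⟶ G :=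
    Over.homMk (Spec.map (CommRingCat.ofHom ε) ≫ x) (by
      rw [Category.assoc, hxt, ← Category.assoc, hεw]
      exact Over.w w)
  have hz' : z' ≫ f = w ≫ Y := by
    ext1
    change (Spec.map (CommRingCat.ofHom ε) ≫ x) ≫ f.left = w.left ≫ Y.left
    rw [Category.assoc, h, ← Category.assoc, hεw]
  let z : tB (R := A) s K ⟶ Red.bc q G := bcEquiv q (tB (R := A) s K) G z'
  have hdet := isUnit_det_matO Y
  let N : Matrix m m A := (matO Y).map (ψ.comp (algebraMap O B))
  let N' : Matrix m m A := ((matO Y)⁻¹).map (ψ.comp (algebraMap O B))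
  have hNN' : N' * N = 1 := by
    have h1 : (matO Y)⁻¹ * matO Y = 1 := Matrix.nonsing_inv_mul _ hdet
    change ((matO Y)⁻¹).map (ψ.comp (algebraMap O B)) * (matO Y).map (ψ.comp (algebraMap O B)) = 1
    rw [← Matrix.map_mul, h1, Matrix.map_one _ (map_zero _) (map_one _)]
  have hN : matB q f s K z = N.map (algebraMap A K) := by
    have h1 : matB q f s K z = (Scheme.ΓSpecIso (CommRingCat.of K)).hom.hom.mapMatrix (mat (z' ≫ f)) := by
      change (Scheme.ΓSpecIso (CommRingCat.of K)).hom.hom.mapMatrix (mat ((bcEquiv q (tB (R := A) s K) G).symm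
        (bcEquiv q (tB (R := A) s K) G z') ≫ f)) = _
      rw [Equiv.symm_apply_apply]
    rw [h1, hz']
    refine (matO_comp ((i.comp ψ).comp (algebraMap O B)) Y w rfl).trans ?_
    ext a b
    rfl
  obtain ⟨z₀, hz₀⟩ := exists_lift_val q f D s z N N' hNN' hN
  -- the `A`-point of `G`
  let l₀ : Spec (CommRingCat.of A) ⟶ G.left := ((bcEquiv q (tB (R := A) s A) G).symm z₀).left
  have hl₀ : Spec.map (CommRingCat.ofHom i) ≫ l₀ = Spec.map (CommRingCat.ofHom ε) ≫ x := by
    have h1 : (bcEquiv q (tB (R := A) s K) G).symm (vk A K s ≫ z₀) = z' := by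
      rw [hz₀]
      exact Equiv.symm_apply_apply _ _
    rw [comp_bcEquiv_symm] at h1
    exact congrArg (fun k => k.left) h1
  have hl₀t : l₀ ≫ G.hom = Spec.map (CommRingCat.ofHom (ψ.comp (algebraMap O B))) ≫ t := by
    have h1 : l₀ ≫ G.hom = (Spec.map (CommRingCat.ofHom (algebraMap A A)) ≫ s) ≫ q :=
      Over.w ((bcEquiv q (tB (R := A) s A) G).symm z₀)
    rw [h1]
    change (Spec.map (CommRingCat.ofHom (algebraMap A A)) ≫ Spec.map (CommRingCat.ofHom ψ)) ≫ Spec.map φ ≫ t = _
    rw [← Spec.map_comp, ← Category.assoc, ← Spec.map_comp]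
    rfl
  -- descent to `O`
  have haff : IsAffineHom (Red.bc t G).hom := hG.1
  have haff' : IsAffine (Red.bc t G).left := isAffine_of_isAffineHom (Red.bc t G).hom
  let X : Scheme.{u} := pullback G.hom t
  have hX : IsAffine X := haff'
  let x' : Spec (CommRingCat.of F) ⟶ X := pullback.lift x (Spec.map (CommRingCat.ofHom (algebraMap O F))) hxt
  let l' : Spec (CommRingCat.of A) ⟶ X :=
    pullback.lift l₀ (Spec.map (CommRingCat.ofHom (ψ.comp (algebraMap O B)))) hl₀t
  have hxl : Spec.map (CommRingCat.ofHom ε) ≫ x' = Spec.map (CommRingCat.ofHom i) ≫ l' := by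
    apply pullback.hom_ext
    · rw [Category.assoc, Category.assoc, pullback.lift_fst, pullback.lift_fst, hl₀]
    · rw [Category.assoc, Category.assoc, pullback.lift_snd, pullback.lift_snd, hεw]
      change Spec.map (CommRingCat.ofHom ((i.comp ψ).comp (algebraMap O B))) = _
      rw [← Spec.map_comp]
      rfl
  obtain ⟨l, hl⟩ := exists_lift_affine (CommRingCat.ofHom (algebraMap O F)) (IsFractionRing.injective O F) x' (by
    intro a
    have h1 : ε ((Scheme.ΓSpecIso (CommRingCat.of F)).hom (x'.appTop a)) =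
        i ((Scheme.ΓSpecIso (CommRingCat.of A)).hom (l'.appTop a)) := by
      have h2 := congr($(Scheme.ΓSpecIso_naturality (CommRingCat.ofHom ε)) (x'.appTop a))
      have h3 := congr($(Scheme.ΓSpecIso_naturality (CommRingCat.ofHom i)) (l'.appTop a))
      have h4 := congrArg (fun g => (Scheme.ΓSpecIso (CommRingCat.of K)).hom (g.appTop a)) hxl
      simp only [Scheme.Hom.comp_appTop] at h4
      exact h2.symm.trans (h4.trans h3)
    exact mem_range_of_mem i (IsFractionRing.injective A K) (ψ.comp (algebraMap O B)) ε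
      (by rw [hε, RingHom.comp_assoc]) _ _ h1)
  refine ⟨l ≫ pullback.fst _ _, ?_, ?_⟩
  · rw [← Category.assoc, hl, pullback.lift_fst]
  · have hdom : IsDominant (Spec.map (CommRingCat.ofHom (algebraMap O F))) := isDominant_specMap F
    have h1 : l ≫ pullback.snd G.hom t = 𝟙 _ := by
      refine ext_of_isDominant_of_isSeparated (terminal.from _) (terminal.hom_ext _ _)
        (Spec.map (CommRingCat.ofHom (algebraMap O F))) ?_
      rw [← Category.assoc, hl, pullback.lift_snd, Category.comp_id]
    rw [Category.assoc, pullback.condition, ← Category.assoc, h1, Category.id_comp]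

/-- **Integral points over valuation rings.** -/
theorem exists_lift [IsMonHom f] [LocallyOfFiniteType f.left] [QuasiCompact f.left]
    [LocallyQuasiFinite f.left] {O F : Type u} [CommRing O] [IsDomain O] [ValuationRing O] [Field F] [Algebra O F]
    [IsFractionRing O F] (x : Spec (CommRingCat.of F) ⟶ G.left) (t : Spec (CommRingCat.of O) ⟶ S)
    (Y : Over.mk t ⟶ GLS m S) (h : x ≫ f.left = Spec.map (CommRingCat.ofHom (algebraMap O F)) ≫ Y.left)
    (hG : Red.IsReductive (Red.bc t G)) :
    ∃ l : Spec (CommRingCat.of O) ⟶ G.left, Spec.map (CommRingCat.ofHom (algebraMap O F)) ≫ l = x := by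
  obtain ⟨l, hl, -⟩ := exists_lift' f x t Y h hG
  exact ⟨l, hl⟩

end Groth.Agent.Sga3.H806.DvrPt
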