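import Groth.Agent.Sga3B.BcPts
import Mathlib.CategoryTheory.Monoidal.Cartesian.Grp
import Mathlib.Algebra.Group.MinimalAxioms

/-!
# Group laws in families

`Law G T`: the data of a multiplication, a unit and an inverse on `G`, parametrised by `T` (all objects of a
cartesian monoidal category).  `Law.IsGrp`: the group axioms on points.  Over a base scheme `S`, a law on `G`
parametrised by `f : S' ⟶ S` satisfying the axioms gives a group structure on the base change `Red.bc f G`.
-/

set_option autoImplicit false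
universe u v w

open CategoryTheory MonoidalCategory CartesianMonoidalCategory

set_option linter.dupNamespace false

namespace Groth.Agent.Sga3.H806.Law

section General

variable {C : Type w} [Category.{v} C] [CartesianMonoidalCategory C]

/-- Data of a group law on `G` in families over `T`. -/
structure Law (G T : C) where
  /-- multiplication -/
  mul : (G ⊗ G) ⊗ T ⟶ G
  /-- unit -/
  one : T ⟶ G
  /-- inverse -/
  inv : G ⊗ T ⟶ G

namespace Law

variable {G T T' T'' : C} (L : Law G T)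

/-- multiplication on points -/
def m {A : C} (t : A ⟶ T) (a b : A ⟶ G) : A ⟶ G := lift (lift a b) t ≫ L.mul

/-- unit on points -/
def e {A : C} (t : A ⟶ T) : A ⟶ G := t ≫ L.one

/-- inverse on points -/
def i {A : C} (t : A ⟶ T) (a : A ⟶ G) : A ⟶ G := lift a t ≫ L.inv

lemma comp_m {A B : C} (h : B ⟶ A) (t : A ⟶ T) (a b : A ⟶ G) :
    h ≫ L.m t a b = L.m (h ≫ t) (h ≫ a) (h ≫ b) := by
  simp only [m]
  rw [← Category.assoc, comp_lift, comp_lift]

lemma comp_e {A B : C} (h : B ⟶ A) (t : A ⟶ T) : h ≫ L.e t = L.e (h ≫ t) := by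
  simp only [e, Category.assoc]

lemma comp_i {A B : C} (h : B ⟶ A) (t : A ⟶ T) (a : A ⟶ G) : h ≫ L.i t a = L.i (h ≫ t) (h ≫ a) := by
  simp only [i]
  rw [← Category.assoc, comp_lift]

/-- The group axioms, on points. -/
structure IsGrp : Prop where
  assoc : ∀ {A : C} (t : A ⟶ T) (a b c : A ⟶ G), L.m t (L.m t a b) c = L.m t a (L.m t b c)
  one_mul : ∀ {A : C} (t : A ⟶ T) (a : A ⟶ G), L.m t (L.e t) a = a
  inv_mul : ∀ {A : C} (t : A ⟶ T) (a : A ⟶ G), L.m t (L.i t a) a = L.e t

/-- restriction of a law along `h : T' ⟶ T`. -/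
@[simps] def res (h : T' ⟶ T) : Law G T' where
  mul := (G ⊗ G) ◁ h ≫ L.mul
  one := h ≫ L.one
  inv := G ◁ h ≫ L.inv

lemma res_m (h : T' ⟶ T) {A : C} (t : A ⟶ T') (a b : A ⟶ G) : (L.res h).m t a b = L.m (t ≫ h) a b := by
  simp only [m, res_mul, lift_whiskerLeft_assoc]

lemma res_e (h : T' ⟶ T) {A : C} (t : A ⟶ T') : (L.res h).e t = L.e (t ≫ h) := by
  simp only [e, res_one, Category.assoc]

lemma res_i (h : T' ⟶ T) {A : C} (t : A ⟶ T') (a : A ⟶ G) : (L.res h).i t a = L.i (t ≫ h) a := by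
  simp only [i, res_inv, lift_whiskerLeft_assoc]

lemma IsGrp.res {L : Law G T} (hL : L.IsGrp) (h : T' ⟶ T) : (L.res h).IsGrp where
  assoc t a b c := by simp only [res_m]; exact hL.assoc _ a b c
  one_mul t a := by simp only [res_m, res_e]; exact hL.one_mul _ a
  inv_mul t a := by simp only [res_m, res_e, res_i]; exact hL.inv_mul _ a

lemma res_res (h : T' ⟶ T) (h' : T'' ⟶ T') : (L.res h).res h' = L.res (h' ≫ h) := by
  simp only [res]
  congr 1
  · rw [← MonoidalCategory.whiskerLeft_comp_assoc]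
  · rw [Category.assoc]
  · rw [← MonoidalCategory.whiskerLeft_comp_assoc]

/-- the universal associativity equation -/
def assocL : ((G ⊗ G) ⊗ G) ⊗ T ⟶ G :=
  L.m (snd _ _) (L.m (snd _ _) (fst _ _ ≫ fst _ _ ≫ fst _ _) (fst _ _ ≫ fst _ _ ≫ snd _ _)) (fst _ _ ≫ snd _ _)

/-- the universal associativity equation -/
def assocR : ((G ⊗ G) ⊗ G) ⊗ T ⟶ G :=
  L.m (snd _ _) (fst _ _ ≫ fst _ _ ≫ fst _ _) (L.m (snd _ _) (fst _ _ ≫ fst _ _ ≫ snd _ _) (fst _ _ ≫ snd _ _))

/-- the universal left unit equation -/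
def unitL : G ⊗ T ⟶ G := L.m (snd _ _) (L.e (snd _ _)) (fst _ _)

/-- the universal left inverse equation -/
def invL : G ⊗ T ⟶ G := L.m (snd _ _) (L.i (snd _ _) (fst _ _)) (fst _ _)

/-- the universal left inverse equation -/
def invR : G ⊗ T ⟶ G := L.e (snd _ _)

lemma isGrp_iff : L.IsGrp ↔ L.assocL = L.assocR ∧ L.unitL = fst _ _ ∧ L.invL = L.invR := by
  constructor
  · intro h
    exact ⟨h.assoc _ _ _ _, h.one_mul _ _, h.inv_mul _ _⟩
  · rintro ⟨h1, h2, h3⟩
    refine ⟨?_, ?_, ?_⟩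
    · intro A t a b c
      have := congrArg (fun k => lift (lift (lift a b) c) t ≫ k) h1
      simp only [assocL, assocR, comp_m, lift_snd, lift_fst_assoc, lift_fst] at this
      exact this
    · intro A t a
      have := congrArg (fun k => lift a t ≫ k) h2
      simp only [unitL, comp_m, comp_e, lift_snd, lift_fst] at this
      exact this
    · intro A t a
      have := congrArg (fun k => lift a t ≫ k) h3
      simp only [invL, invR, comp_m, comp_e, comp_i, lift_snd, lift_fst] at this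
      exact this

lemma whisker_m (h : T' ⟶ T) (Z : C) (a b : Z ⊗ T ⟶ G) :
    Z ◁ h ≫ L.m (snd Z T) a b = (L.res h).m (snd Z T') (Z ◁ h ≫ a) (Z ◁ h ≫ b) := by
  rw [comp_m, res_m, whiskerLeft_snd]

lemma whisker_e (h : T' ⟶ T) (Z : C) : Z ◁ h ≫ L.e (snd Z T) = (L.res h).e (snd Z T') := by
  rw [comp_e, res_e, whiskerLeft_snd]

lemma whisker_i (h : T' ⟶ T) (Z : C) (a : Z ⊗ T ⟶ G) :
    Z ◁ h ≫ L.i (snd Z T) a = (L.res h).i (snd Z T') (Z ◁ h ≫ a) := by
  rw [comp_i, res_i, whiskerLeft_snd]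

lemma whisker_assocL (h : T' ⟶ T) : ((G ⊗ G) ⊗ G) ◁ h ≫ L.assocL = (L.res h).assocL := by
  simp only [assocL, whisker_m, whiskerLeft_fst_assoc]

lemma whisker_assocR (h : T' ⟶ T) : ((G ⊗ G) ⊗ G) ◁ h ≫ L.assocR = (L.res h).assocR := by
  simp only [assocR, whisker_m, whiskerLeft_fst_assoc]

lemma whisker_unitL (h : T' ⟶ T) : G ◁ h ≫ L.unitL = (L.res h).unitL := by
  simp only [unitL, whisker_m, whisker_e, whiskerLeft_fst]

lemma whisker_invL (h : T' ⟶ T) : G ◁ h ≫ L.invL = (L.res h).invL := by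
  simp only [invL, whisker_m, whisker_i, whiskerLeft_fst]

lemma whisker_invR (h : T' ⟶ T) : G ◁ h ≫ L.invR = (L.res h).invR := by
  simp only [invR, whisker_e]

end Law

end General

section Scheme

open AlgebraicGeometry Opposite
open Groth.Agent.Sga3B.BcPts

variable {S S' S'' : Scheme.{u}}

/-- the canonical point -/
def tau (f : S' ⟶ S) (Y : Over S') : (Over.map f).obj Y ⟶ Over.mk f := Over.homMk Y.hom

lemma comp_tau (f : S' ⟶ S) {Y Y' : Over S'} (h : Y' ⟶ Y) : (Over.map f).map h ≫ tau f Y = tau f Y' := by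
  ext1
  simp [tau]

/-- points of `G` over `Y` -/
def Pt {f : S' ⟶ S} {G : Over S} {L : Law G (Over.mk f)} (_ : L.IsGrp) (Y : Over S') : Type u :=
  (Over.map f).obj Y ⟶ G

section pt

variable {f : S' ⟶ S} {G : Over S} {L : Law G (Over.mk f)} (hL : L.IsGrp)

noncomputable instance (Y : Over S') : Mul (Pt hL Y) := ⟨fun a b => L.m (tau f Y) a b⟩
noncomputable instance (Y : Over S') : Inv (Pt hL Y) := ⟨fun a => L.i (tau f Y) a⟩
noncomputable instance (Y : Over S') : One (Pt hL Y) := ⟨L.e (tau f Y)⟩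

/-- the group structure on points -/
noncomputable instance ptGroup (Y : Over S') : Group (Pt hL Y) :=
  Group.ofLeftAxioms (fun a b c => hL.assoc (tau f Y) a b c) (fun a => hL.one_mul (tau f Y) a)
    (fun a => hL.inv_mul (tau f Y) a)

omit hL in
lemma ptMap_aux (L : Law G (Over.mk f)) {Y Y' : Over S'} (h : Y' ⟶ Y) (a b : (Over.map f).obj Y ⟶ G) :
    (Over.map f).map h ≫ L.m (tau f Y) a b =
      L.m (tau f Y') ((Over.map f).map h ≫ a) ((Over.map f).map h ≫ b) := by
  rw [L.comp_m, comp_tau]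

omit hL in
lemma map_id_aux {Y : Over S'} (a : (Over.map f).obj Y ⟶ G) : (Over.map f).map (𝟙 Y) ≫ a = a := by
  rw [CategoryTheory.Functor.map_id, Category.id_comp]

omit hL in
lemma map_comp_aux {Y Y' Y'' : Over S'} (h : Y' ⟶ Y) (h' : Y'' ⟶ Y') (a : (Over.map f).obj Y ⟶ G) :
    (Over.map f).map (h' ≫ h) ≫ a = (Over.map f).map h' ≫ (Over.map f).map h ≫ a := by
  rw [Functor.map_comp, Category.assoc]

/-- functoriality of points -/
noncomputable def ptMap {Y Y' : Over S'} (h : Y' ⟶ Y) : Pt hL Y →* Pt hL Y' :=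
  MonoidHom.mk' (fun a => ((Over.map f).map h ≫ a : (Over.map f).obj Y' ⟶ G)) (fun a b => ptMap_aux L h a b)

/-- the presheaf of groups on `Over S'` -/
noncomputable def ptFunctor : (Over S')ᵒᵖ ⥤ GrpCat.{u} where
  obj Y := GrpCat.of (Pt hL Y.unop)
  map {Y Y'} h := GrpCat.ofHom (ptMap hL h.unop)
  map_id Y := by
    ext a
    exact map_id_aux _
  map_comp {Y Y' Y''} h h' := by
    ext a
    exact map_comp_aux _ _ _

/-- representability of the presheaf of points -/
noncomputable def ptRep : (ptFunctor hL ⋙ forget _).RepresentableBy (Red.bc f G) where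
  homEquiv {Y} := (bcEquiv f Y G).symm
  homEquiv_comp {Y Y'} h x := by
    change (bcEquiv f Y G).symm (h ≫ x) = (Over.map f).map h ≫ (bcEquiv f Y' G).symm x
    exact comp_bcEquiv_symm f h x

/-- the group structure on the base change -/
@[reducible] noncomputable def grpObj : GrpObj (Red.bc f G) :=
  GrpObj.ofRepresentableBy (Red.bc f G) (ptFunctor hL) (ptRep hL)

open MonObj in
lemma bcEquiv_symm_mul {Y : Over S'} (x y : Y ⟶ Red.bc f G) :
    (bcEquiv f Y G).symm (letI := grpObj hL; x * y) =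
      L.m (tau f Y) ((bcEquiv f Y G).symm x) ((bcEquiv f Y G).symm y) := by
  let _ := grpObj hL
  have h1 := ((yonedaGrpObjIsoOfRepresentableBy (Red.bc f G) (ptFunctor hL) (ptRep hL)).hom.app (op Y)).hom.map_mul
    x y
  exact h1

end pt

end Scheme

end Groth.Agent.Sga3.H806.Law
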