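import Groth.Agent.Sga3.H806.LawOf

/-!
# Comparison of the group attached to a law with a given group

`L : Law G (Over.mk f)` with the group axioms, `p : Over.mk f' ⟶ Over.mk f`, `X` a pullback of `G` along `f'` with a group
structure whose law is `L.res p`.  Then `Red.bc p.left (Red.bc f G) ≅ X` as groups.
-/

set_option autoImplicit false
universe u

open CategoryTheory MonoidalCategory CartesianMonoidalCategory AlgebraicGeometry Limits

namespace Groth.Agent.Sga3.H806.LawCmp

open Groth.Agent.Sga3B.BcPts Groth.Agent.Sga3.H806.Law Groth.Agent.Sga3.H806.LawOf MonObj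

lemma bcEquiv_symm_left {S S' : Scheme.{u}} (q : S' ⟶ S) {T : Over S'} {X : Over S} (y : T ⟶ Red.bc q X) :
    ((bcEquiv q T X).symm y).left = y.left ≫ pullback.fst X.hom q := by
  rw [bcEquiv, Adjunction.homEquiv_counit, Over.mapPullbackAdj_counit_app, Over.comp_left]
  rfl

/-- A morphism of group objects multiplicative on points is a homomorphism. -/
lemma isMonHom_of_mul {𝒞 : Type*} [Category 𝒞] [CartesianMonoidalCategory 𝒞] {G H : 𝒞} [GrpObj G] [GrpObj H]
    (f : G ⟶ H) (h : ∀ (T : 𝒞) (x y : T ⟶ G), (x * y) ≫ f = (x ≫ f) * (y ≫ f)) : IsMonHom f where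
  one_hom := by
    have h1 := h (𝟙_ _) 1 1
    rw [_root_.mul_one] at h1
    rw [MonObj.one_eq_one, MonObj.one_eq_one]
    exact (mul_eq_left.mp h1.symm)
  mul_hom := by
    have h1 := h (G ⊗ G) (fst _ _) (snd _ _)
    rw [← MonObj.mul_eq_mul] at h1
    rw [h1, Hom.mul_def]
    congr 1
    ext <;> simp

variable {S S' S'' : Scheme.{u}} {f : S' ⟶ S} {f' : S'' ⟶ S} (p : Over.mk f' ⟶ Over.mk f)
  {G : Over S} {X : Over S''} {g : X.left ⟶ G.left} (hX : IsPullback g X.hom G.hom f')

lemma p_w : p.left ≫ f = f' := Over.w p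

/-- the comparison morphism -/
noncomputable def cmp : Red.bc p.left (Red.bc f G) ⟶ X :=
  Over.homMk (hX.lift (pullback.fst _ _ ≫ pullback.fst _ _) (pullback.snd _ _) (by
    rw [Category.assoc, pullback.condition]
    have h : pullback.fst (Red.bc f G).hom p.left ≫ pullback.snd G.hom f =
      pullback.snd (Red.bc f G).hom p.left ≫ p.left := pullback.condition
    rw [← Category.assoc, h, Category.assoc, p_w])) (hX.lift_snd _ _ _)

lemma cmp_left_g : (cmp p hX).left ≫ g = pullback.fst (Red.bc f G).hom p.left ≫ pullback.fst G.hom f :=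
  hX.lift_fst _ _ _

lemma isPullback_cmp : IsPullback (pullback.fst (Red.bc f G).hom p.left ≫ pullback.fst G.hom f)
    (Red.bc p.left (Red.bc f G)).hom G.hom f' := by
  have h1 : IsPullback (pullback.fst G.hom f) (Red.bc f G).hom G.hom f := IsPullback.of_hasPullback _ _
  have h2 : IsPullback (pullback.fst (Red.bc f G).hom p.left) (Red.bc p.left (Red.bc f G)).hom (Red.bc f G).hom p.left :=
    IsPullback.of_hasPullback _ _
  have := h2.paste_horiz h1
  rwa [p_w] at this

instance isIso_cmp_left : IsIso (cmp p hX).left := by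
  have h1 := isPullback_cmp p (G := G)
  have : (cmp p hX).left = (h1.isoIsPullback _ _ hX).hom := by
    apply hX.hom_ext
    · rw [cmp_left_g, IsPullback.isoIsPullback_hom_fst]
    · exact (Over.w (cmp p hX)).trans (IsPullback.isoIsPullback_hom_snd _ _ h1 hX).symm
  rw [this]
  infer_instance

instance isIso_cmp : IsIso (cmp p hX) := by
  have : IsIso ((Over.forget _).map (cmp p hX)) := isIso_cmp_left p hX
  exact isIso_of_reflects_iso _ (Over.forget _)

/-- the canonical point -/
def tpt (Y : Over S'') : (Over.map f).obj ((Over.map p.left).obj Y) ⟶ Over.mk f' :=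
  Over.homMk Y.hom (by
    change Y.hom ≫ f' = (Y.hom ≫ p.left) ≫ f
    rw [Category.assoc, p_w])

lemma tpt_comp (Y : Over S'') : tpt p Y ≫ p = tau f ((Over.map p.left).obj Y) := by
  ext1
  rfl

/-- points of `X` in terms of points of `G` -/
noncomputable def pts {Y : Over S''} (x : Y ⟶ Red.bc p.left (Red.bc f G)) :
    (Over.map f).obj ((Over.map p.left).obj Y) ⟶ G :=
  (bcEquiv f ((Over.map p.left).obj Y) G).symm ((bcEquiv p.left Y (Red.bc f G)).symm x)

lemma comp_cmp {Y : Over S''} (x : Y ⟶ Red.bc p.left (Red.bc f G)) :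
    x ≫ cmp p hX = (up hX (tpt p Y) (pts p x) : Y ⟶ X) := by
  ext1
  apply hX.hom_ext
  · rw [Over.comp_left, Category.assoc, cmp_left_g]
    refine Eq.trans ?_ (up_left_fst hX (tpt p Y) (pts p x)).symm
    rw [pts, bcEquiv_symm_left, bcEquiv_symm_left, Category.assoc]
  · exact (Over.w (x ≫ cmp p hX)).trans (Over.w (up hX (tpt p Y) (pts p x))).symm

variable [GrpObj X]

theorem isMonHom_cmp {L : Law G (Over.mk f)} (hL : L.IsGrp) (h : L.res p = lawOf hX) :
    letI := grpObj hL
    IsMonHom (cmp p hX) := by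
  let _ := grpObj hL
  refine isMonHom_of_mul _ fun Y x y => ?_
  have h1 : pts p (x * y) = L.m (tau f ((Over.map p.left).obj Y)) (pts p x) (pts p y) := by
    rw [pts]
    have := (bcMulEquiv p.left Y (Red.bc f G)).symm.map_mul x y
    have e : (bcEquiv p.left Y (Red.bc f G)).symm (x * y) =
      (bcEquiv p.left Y (Red.bc f G)).symm x * (bcEquiv p.left Y (Red.bc f G)).symm y := this
    rw [e]
    exact bcEquiv_symm_mul hL _ _
  rw [comp_cmp, comp_cmp, comp_cmp, h1, ← tpt_comp, ← L.res_m, h, lawOf_m, up_dn]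
  rfl

/-- the comparison isomorphism -/
theorem nonempty_iso {L : Law G (Over.mk f)} (hL : L.IsGrp) (h : L.res p = lawOf hX) :
    letI := grpObj hL
    Nonempty (Grp.mk (Red.bc p.left (Red.bc f G)) ≅ Grp.mk X) := by
  let _ := grpObj hL
  have := isMonHom_cmp p hX hL h
  have : IsMonHom (asIso (cmp p hX)).hom := isMonHom_cmp p hX hL h
  exact ⟨Grp.mkIso (asIso (cmp p hX)) (IsMonHom.one_hom _) (IsMonHom.mul_hom _)⟩

end Groth.Agent.Sga3.H806.LawCmp
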