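import Groth.Agent.Sga3.H806.Law

/-!
# The law in families attached to a group structure on a base change

`X` an `S'`-group which is a pullback of `G : Over S` along `f : S' ⟶ S`: the law `lawOf hX : Law G (Over.mk f)`.
Conversely (`isMonHom_comp`), if `L : Law G (Over.mk f)` satisfies the axioms and restricts along `q : S'' ⟶ S'` to the
law of `X`, then the comparison `bc q (bc f G) ⟶ X` is a homomorphism.
-/

set_option autoImplicit false
universe u

open CategoryTheory MonoidalCategory CartesianMonoidalCategory AlgebraicGeometry Limits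

namespace Groth.Agent.Sga3.H806.LawOf

open Groth.Agent.Sga3B.BcPts Groth.Agent.Sga3.H806.Law MonObj

variable {S S' : Scheme.{u}} {f : S' ⟶ S} {G : Over S} {X : Over S'} {g : X.left ⟶ G.left}
  (hX : IsPullback g X.hom G.hom f)

/-- points of `X` as points of `G` -/
def dn {A : Over S} (t : A ⟶ Over.mk f) (x : Over.mk t.left ⟶ X) : A ⟶ G :=
  Over.homMk (x.left ≫ g) (by
    rw [Category.assoc, hX.w, ← Category.assoc, Over.w x]
    exact Over.w t)

/-- points of `G` as points of `X` -/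
noncomputable def up {A : Over S} (t : A ⟶ Over.mk f) (a : A ⟶ G) : Over.mk t.left ⟶ X :=
  Over.homMk (hX.lift a.left t.left (by
    rw [Over.w a]
    exact (Over.w t).symm)) (hX.lift_snd _ _ _)

lemma dn_left {A : Over S} (t : A ⟶ Over.mk f) (x : Over.mk t.left ⟶ X) : (dn hX t x).left = x.left ≫ g := rfl

lemma up_left_fst {A : Over S} (t : A ⟶ Over.mk f) (a : A ⟶ G) : (up hX t a).left ≫ g = a.left :=
  hX.lift_fst _ _ _

lemma dn_up {A : Over S} (t : A ⟶ Over.mk f) (a : A ⟶ G) : dn hX t (up hX t a) = a := by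
  ext1
  exact hX.lift_fst _ _ _

lemma up_dn {A : Over S} (t : A ⟶ Over.mk f) (x : Over.mk t.left ⟶ X) : up hX t (dn hX t x) = x := by
  ext1
  apply hX.hom_ext
  · exact hX.lift_fst _ _ _
  · refine (hX.lift_snd _ _ _).trans (Over.w x).symm

/-- functoriality -/
def mkMap {A B : Over S} (h : B ⟶ A) (t : A ⟶ Over.mk f) : Over.mk (h ≫ t).left ⟶ Over.mk t.left :=
  Over.homMk h.left (by simp)

lemma mkMap_left {A B : Over S} (h : B ⟶ A) (t : A ⟶ Over.mk f) : (mkMap h t).left = h.left := rfl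

lemma comp_dn {A B : Over S} (h : B ⟶ A) (t : A ⟶ Over.mk f) (x : Over.mk t.left ⟶ X) :
    h ≫ dn hX t x = dn hX (h ≫ t) (mkMap h t ≫ x) := by
  ext1
  exact (Category.assoc h.left x.left g).symm

lemma comp_up {A B : Over S} (h : B ⟶ A) (t : A ⟶ Over.mk f) (a : A ⟶ G) :
    up hX (h ≫ t) (h ≫ a) = mkMap h t ≫ up hX t a := by
  have h1 := congrArg (up hX (h ≫ t)) (comp_dn hX h t (up hX t a))
  rwa [dn_up, up_dn] at h1

variable [GrpObj X]

/-- the law attached to a group structure on the base change -/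
noncomputable def lawOf : Law G (Over.mk f) where
  mul := dn hX (snd _ _) (up hX (snd _ _) (fst _ _ ≫ fst _ _) * up hX (snd _ _) (fst _ _ ≫ snd _ _))
  one := dn hX (𝟙 _) 1
  inv := dn hX (snd _ _) (up hX (snd _ _) (fst _ _))⁻¹

lemma lawOf_m {A : Over S} (t : A ⟶ Over.mk f) (a b : A ⟶ G) :
    (lawOf hX).m t a b = dn hX t (up hX t a * up hX t b) := by
  rw [Law.m, lawOf, comp_dn, MonObj.comp_mul, ← comp_up, ← comp_up]
  have e1 : lift (lift a b) t ≫ snd (G ⊗ G) (Over.mk f) = t := lift_snd _ _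
  have e2 : lift (lift a b) t ≫ fst (G ⊗ G) (Over.mk f) ≫ fst G G = a := by simp
  have e3 : lift (lift a b) t ≫ fst (G ⊗ G) (Over.mk f) ≫ snd G G = b := by simp
  rw [e2, e3]
  exact congrArg (fun s => dn hX s (up hX s a * up hX s b)) e1

lemma lawOf_e {A : Over S} (t : A ⟶ Over.mk f) : (lawOf hX).e t = dn hX t 1 := by
  rw [Law.e, lawOf, comp_dn, MonObj.comp_one]
  exact congrArg (fun s => dn hX s 1) (Category.comp_id t)

lemma lawOf_i {A : Over S} (t : A ⟶ Over.mk f) (a : A ⟶ G) :
    (lawOf hX).i t a = dn hX t (up hX t a)⁻¹ := by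
  rw [Law.i, lawOf, comp_dn, GrpObj.comp_inv, ← comp_up]
  have e1 : lift a t ≫ snd G (Over.mk f) = t := lift_snd _ _
  have e2 : lift a t ≫ fst G (Over.mk f) = a := lift_fst _ _
  rw [e2]
  exact congrArg (fun s => dn hX s (up hX s a)⁻¹) e1

lemma isGrp_lawOf : (lawOf hX).IsGrp where
  assoc t a b c := by
    simp only [lawOf_m, up_dn, _root_.mul_assoc]
  one_mul t a := by
    rw [lawOf_m, lawOf_e, up_dn, _root_.one_mul, dn_up]
  inv_mul t a := by
    rw [lawOf_m, lawOf_i, lawOf_e, up_dn, inv_mul_cancel]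

end Groth.Agent.Sga3.H806.LawOf
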