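import Groth.Agent.Sga3.H806.DvrPt
import Groth.Agent.S2335
import Mathlib.AlgebraicGeometry.ZariskisMainTheorem

/-!
# Quasi-finite representations of reductive groups are finite

`f : G ⟶ GLS m S` a quasi-finite homomorphism, `S` locally noetherian, `G` separated, such that the base change of `G` to
every discrete valuation ring is reductive.  Then `f` is finite and `G` is affine over `S`.
-/

set_option autoImplicit false
universe u

open CategoryTheory MonoidalCategory CartesianMonoidalCategory MonObj AlgebraicGeometry Limits

namespace Groth.Agent.Sga3.H806.Proper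

open Groth.Agent.Sga3B Groth.Agent.Sga3B.GLn

variable {S : Scheme.{u}} {G : Over S} [GrpObj G] {m : Type u} [Fintype m] [DecidableEq m]
  (f : G ⟶ GLS m S)

/-- A quasi-finite representation of a group scheme which is reductive over discrete valuation rings is proper. -/
theorem isProper [IsLocallyNoetherian S] [IsMonHom f] [LocallyOfFiniteType f.left] [QuasiCompact f.left]
    [IsSeparated f.left] [LocallyQuasiFinite f.left]
    (h : ∀ (O : Type u) [CommRing O] [IsDomain O] [IsDiscreteValuationRing O] (t : Spec (CommRingCat.of O) ⟶ S),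
      Red.IsReductive (Red.bc t G)) : IsProper f.left := by
  have hN : IsLocallyNoetherian (GLS m S).left := LocallyOfFiniteType.isLocallyNoetherian (GLS m S).hom
  rw [S2335.result]
  intro A _ _ _ x y hxy
  obtain ⟨l, hl, hlt⟩ := DvrPt.exists_lift' f x (y ≫ (GLS m S).hom) (Over.homMk y) hxy (h A _)
  have hdom : IsDominant (Spec.map (CommRingCat.ofHom (algebraMap A (FractionRing A)))) :=
    DvrPt.isDominant_specMap _
  have hlf : l ≫ f.left = y := by
    refine ext_of_isDominant_of_isSeparated (GLS m S).hom ?_ (Spec.map (CommRingCat.ofHom (algebraMap A (FractionRing A)))) ?_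
    · rw [Category.assoc, Over.w, hlt]
    · rw [← Category.assoc, hl, hxy]
  refine ⟨l, ⟨hlf, hl⟩, ?_⟩
  rintro l' ⟨h1, h2⟩
  refine ext_of_isDominant_of_isSeparated f.left (h1.trans hlf.symm) (Spec.map (CommRingCat.ofHom (algebraMap A (FractionRing A)))) (h2.trans hl.symm)

theorem isFinite [IsLocallyNoetherian S] [IsMonHom f] [LocallyOfFiniteType f.left] [QuasiCompact f.left]
    [IsSeparated f.left] [LocallyQuasiFinite f.left]
    (h : ∀ (O : Type u) [CommRing O] [IsDomain O] [IsDiscreteValuationRing O] (t : Spec (CommRingCat.of O) ⟶ S),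
      Red.IsReductive (Red.bc t G)) : IsFinite f.left := by
  have := isProper f h
  exact IsFinite.of_isProper_of_locallyQuasiFinite f.left

theorem isAffineHom [IsLocallyNoetherian S] [IsMonHom f] [LocallyOfFiniteType f.left] [QuasiCompact f.left]
    [IsSeparated f.left] [LocallyQuasiFinite f.left]
    (h : ∀ (O : Type u) [CommRing O] [IsDomain O] [IsDiscreteValuationRing O] (t : Spec (CommRingCat.of O) ⟶ S),
      Red.IsReductive (Red.bc t G)) : IsAffineHom G.hom := by
  have := isFinite f h
  rw [← Over.w f]
  exact (inferInstance : IsAffineHom (f.left ≫ (GLS m S).hom))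

end Groth.Agent.Sga3.H806.Proper
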