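import Groth.Agent.Sga3B.AdAff
import Mathlib.AlgebraicGeometry.ZariskisMainTheorem

/-!
# The quasi-finite locus of a group scheme

* `discreteTopology_bc` : if a group scheme `N` of finite type is quasi-finite at the unit over `t`, its fibre at `t` is
  discrete;
* `exists_open` : if a geometric fibre of `N` is discrete, `N` is quasi-finite over a neighbourhood;
* `exists_open_hom` : the same for the kernel of a homomorphism, the homomorphism being quasi-finite over a neighbourhood.
-/

set_option autoImplicit false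
universe u

open CategoryTheory MonoidalCategory CartesianMonoidalCategory MonObj GrpObj AlgebraicGeometry Limits

namespace Groth.Agent.Sga3.H806.QFLocus

open Groth.Agent.Sga3B Groth.Agent.Sga3B.KerGrp Groth.Agent.Books.AlgPts

theorem quasiFiniteAt_of_finite {X Y : Scheme.{u}} (f : X ⟶ Y) [LocallyOfFiniteType f] (x : X)
    (h : (f ⁻¹' {f x}).Finite) : f.QuasiFiniteAt x := by
  rw [Scheme.Hom.quasiFiniteAt_iff_isOpen_singleton_asFiber]
  have h1 : LocallyQuasiFinite (f.fiberToSpecResidueField (f x)) := by
    have hlft : LocallyOfFiniteType (f.fiberToSpecResidueField (f x)) :=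
      inferInstanceAs (LocallyOfFiniteType (pullback.snd _ _))
    refine .of_finite_preimage_singleton _ fun y => ?_
    have : Finite (f.fiber (f x)) := by
      have := h.to_subtype
      exact Finite.of_equiv _ (f.fiberHomeo (f x)).symm.toEquiv
    exact Set.toFinite _
  have h2 : IsLocallyArtinian (f.fiber (f x)) := .of_locallyQuasiFinite (f.fiberToSpecResidueField (f x))
  exact isOpen_discrete _

variable {S : Scheme.{u}}

/-- A group scheme which is quasi-finite at a point of the unit section has a discrete fibre. -/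
theorem discreteTopology_bc (N : Over S) [GrpObj N] [LocallyOfFiniteType N.hom] {K : Type u} [Field K]
    [IsAlgClosed K] (t : Spec (CommRingCat.of K) ⟶ S)
    (h : N.hom.QuasiFiniteAt ((η[N] : 𝟙_ (Over S) ⟶ N).left (t (IsLocalRing.closedPoint K)))) :
    DiscreteTopology (Red.bc t N).left := by
  have hlft : LocallyOfFiniteType (Red.bc t N).hom := inferInstanceAs (LocallyOfFiniteType (pullback.snd _ _))
  apply SsKer.discreteTopology_of_isOpen_pt (Red.bc t N)
  let W : N.left.Opens := N.hom.quasiFiniteLocus
  let W' : (pullback N.hom t).Opens := (pullback.fst N.hom t) ⁻¹ᵁ W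
  have hpb : IsPullback ((pullback.fst N.hom t) ∣_ W) (W'.ι ≫ pullback.snd N.hom t) (W.ι ≫ N.hom) t :=
    (isPullback_morphismRestrict (pullback.fst N.hom t) W).paste_vert (IsPullback.of_hasPullback N.hom t)
  have hq : LocallyQuasiFinite (W'.ι ≫ pullback.snd N.hom t) :=
    MorphismProperty.of_isPullback (P := @LocallyQuasiFinite) hpb inferInstance
  have hart : IsLocallyArtinian (W' : Scheme.{u}) := .of_locallyQuasiFinite (W'.ι ≫ pullback.snd N.hom t)
  have hmem : (pt η[Red.bc t N] : (Red.bc t N).left) ∈ W' := by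
    have h1 := congr($(AdAff.unit_bc t N) (IsLocalRing.closedPoint K))
    rw [Scheme.Hom.comp_apply, Scheme.Hom.comp_apply] at h1
    change (pullback.fst N.hom t) ((η[Red.bc t N] : 𝟙_ _ ⟶ Red.bc t N).left (IsLocalRing.closedPoint K)) ∈ W
    rw [h1]
    exact h
  have h2 : ({pt η[Red.bc t N]} : Set (Red.bc t N).left) = W'.ι '' {⟨_, hmem⟩} := by
    rw [Set.image_singleton]
    rfl
  rw [h2]
  exact W'.ι.isOpenEmbedding.isOpenMap _ (isOpen_discrete _)

/-- the fibre of `f` over a point is finite when a geometric fibre is discrete -/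
lemma finite_preimage {X : Scheme.{u}} (f : X ⟶ S) [QuasiCompact f] {K : Type u} [Field K]
    (t : Spec (CommRingCat.of K) ⟶ S) (hd : DiscreteTopology ↥(pullback f t)) :
    (f ⁻¹' {t (IsLocalRing.closedPoint K)}).Finite := by
  have hcomp : CompactSpace ↥(pullback f t) := by
    have : QuasiCompact (pullback.snd f t) := inferInstance
    exact (quasiCompact_iff_compactSpace (pullback.snd f t)).mp this
  have hfin : Finite ↥(pullback f t) := finite_of_compact_of_discrete
  refine (Set.finite_range (pullback.fst f t)).subset ?_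
  intro x hx
  obtain ⟨z, hz, -⟩ := Scheme.Pullback.exists_preimage_pullback (f := f) (g := t) x _ hx
  exact ⟨z, hz⟩

/-- **The quasi-finite locus of a group scheme.** -/
theorem exists_open (N : Over S) [GrpObj N] [LocallyOfFiniteType N.hom] [QuasiCompact N.hom] {K : Type u} [Field K]
    [IsAlgClosed K] (t : Spec (CommRingCat.of K) ⟶ S) (hd : DiscreteTopology (Red.bc t N).left) :
    ∃ V : S.Opens, t (IsLocalRing.closedPoint K) ∈ V ∧ LocallyQuasiFinite (Red.bc V.ι N).hom := by
  let e : S ⟶ N.left := (η[N] : 𝟙_ (Over S) ⟶ N).left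
  have he : ∀ v, N.hom (e v) = v := fun v => by
    rw [← Scheme.Hom.comp_apply]
    exact congr($(unit_w (H := N)) v)
  refine ⟨e ⁻¹ᵁ N.hom.quasiFiniteLocus, ?_, ?_⟩
  · apply quasiFiniteAt_of_finite
    rw [he]
    exact finite_preimage N.hom t hd
  · set V := e ⁻¹ᵁ N.hom.quasiFiniteLocus with hV
    have hlft : LocallyOfFiniteType (Red.bc V.ι N).hom :=
      inferInstanceAs (LocallyOfFiniteType (pullback.snd _ _))
    refine .of_finite_preimage_singleton _ fun v => ?_
    have hv : N.hom.QuasiFiniteAt (e (V.ι v)) := v.2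
    have h1 := discreteTopology_bc N (Red.geomPt (V.ι v)) (by
      rw [AdAff.geomPt_apply]
      exact hv)
    have h2 := finite_preimage N.hom (Red.geomPt (V.ι v)) h1
    rw [AdAff.geomPt_apply] at h2
    refine (h2.preimage (f := pullback.fst N.hom V.ι) (pullback.fst N.hom V.ι).isOpenEmbedding.injective.injOn).subset ?_
    intro x hx
    change N.hom (pullback.fst N.hom V.ι x) = V.ι v
    rw [← Scheme.Hom.comp_apply, pullback.condition, Scheme.Hom.comp_apply]
    exact congrArg V.ι hx

/-- The kernel is compatible with base change. -/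
theorem exists_iso_ker {G H : Over S} [GrpObj G] [GrpObj H] (f : G ⟶ H) [IsMonHom f] {S' : Scheme.{u}} (t : S' ⟶ S) :
    Nonempty (Red.bc t (kerObj f) ≅ kerObj (G := Red.bc t G) (H := Red.bc t H) ((Over.pullback t).map f)) := by
  let F := Over.pullback t
  have h1 : IsPullback (F.map (kerι f)) (F.map (toUnit (kerObj f))) (F.map f) (F.map η[H]) :=
    (isPullback_ker f).map F
  let e : F.obj (𝟙_ (Over S)) ≅ 𝟙_ (Over S') := (Functor.Monoidal.εIso F).symm
  have h2 : IsPullback (F.map (kerι f)) (toUnit (F.obj (kerObj f))) (F.map f)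
      (η[Red.bc t H] : 𝟙_ _ ⟶ Red.bc t H) := by
    refine h1.of_iso (Iso.refl _) (Iso.refl _) e (Iso.refl _) ?_ (toUnit_unique _ _) ?_ ?_
    · simp
    · simp
    · rw [Iso.refl_hom, Category.comp_id]
      change F.map η[H] = (Functor.Monoidal.εIso F).inv ≫ (Functor.LaxMonoidal.ε F ≫ F.map η[H])
      rw [← Category.assoc]
      change F.map η[H] = ((Functor.Monoidal.εIso F).inv ≫ (Functor.Monoidal.εIso F).hom) ≫ F.map η[H]
      rw [Iso.inv_hom_id, Category.id_comp]
  exact ⟨h2.isoIsPullback _ _ (isPullback_ker (G := Red.bc t G) (H := Red.bc t H) (F.map f))⟩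

/-- **The quasi-finite locus of a homomorphism.** -/
theorem exists_open_hom {G H : Over S} [GrpObj G] [GrpObj H] (f : G ⟶ H) [IsMonHom f] [LocallyOfFiniteType G.hom]
    [QuasiCompact f.left] {K : Type u} [Field K] [IsAlgClosed K] (t : Spec (CommRingCat.of K) ⟶ S)
    (hd : DiscreteTopology (Red.bc t (kerObj f)).left) :
    ∃ V : S.Opens, t (IsLocalRing.closedPoint K) ∈ V ∧
      LocallyQuasiFinite ((Over.pullback V.ι).map f).left := by
  obtain ⟨_, _⟩ := exists_grpObj f
  have hl : LocallyOfFiniteType f.left := by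
    have : LocallyOfFiniteType (f.left ≫ H.hom) := by rw [Over.w]; infer_instance
    exact locallyOfFiniteType_of_comp f.left H.hom
  have hlft : LocallyOfFiniteType (kerObj f).hom :=
    inferInstanceAs (LocallyOfFiniteType (pullback.snd f.left _))
  have hqc : QuasiCompact (kerObj f).hom :=
    inferInstanceAs (QuasiCompact (pullback.snd f.left _))
  obtain ⟨V, hV, hq⟩ := exists_open (kerObj f) t hd
  refine ⟨V, hV, ?_⟩
  obtain ⟨e⟩ := exists_iso_ker f V.ι
  have h1 : LocallyQuasiFinite (kerObj (G := Red.bc V.ι G) (H := Red.bc V.ι H) ((Over.pullback V.ι).map f)).hom := by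
    have h2 : e.inv.left ≫ (Red.bc V.ι (kerObj f)).hom = _ := Over.w e.inv
    rw [← h2]
    have h3 : IsIso e.inv.left := inferInstanceAs (IsIso ((Over.forget _).map e.inv))
    infer_instance
  have h4 : LocallyOfFiniteType (Red.bc V.ι G).hom := inferInstanceAs (LocallyOfFiniteType (pullback.snd _ _))
  have h5 : QuasiCompact ((Over.pullback V.ι).map f).left :=
    MorphismProperty.of_isPullback (P := @QuasiCompact)
      (Sga3C.ActBase.isPullback_map_left V.ι f).flip inferInstance
  exact locallyQuasiFinite_of_ker (G := Red.bc V.ι G) (H := Red.bc V.ι H) ((Over.pullback V.ι).map f) h1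

end Groth.Agent.Sga3.H806.QFLocus
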