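import Groth.Agent.RedSub.H660.Iwasawa

/-!
# Integrality of points through a representation: the torus and the unipotent part

`E : PinCell P b R A` a pinned group, `ρ` a linear representation (functor-of-points form), `V` a valuation ring
with fraction field `K`.  If `g = u t ∈ B(K)` and `ρ(g)` has entries in `V`, then so has `ρ(t)`.
-/

set_option autoImplicit false
set_option linter.unusedSectionVars false
universe u

open Polynomial LaurentPolynomial

namespace Groth.Agent.Sga3.H806.RepInt

open Groth.Agent.Sga3B Groth.Agent.Sga3B.Cell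
open Groth.Agent.Sga3B.Cell.Datum (lau lau_apply pC pC_apply lau_cell eval0_cell)
open Groth.Agent.Sga3B.Word Groth.Agent.RedSub.H660.Iwasawa

/-- A linear representation in functor-of-points form. -/
structure Rep (R A : Type u) [CommRing R] [CommRing A] [Algebra R A] [PtGrp R A] (m : Type u) [Fintype m]
    [DecidableEq m] where
  /-- the action on points -/
  ρ : ∀ (B : Type u) [CommRing B] [Algebra R B], Pt R A B →* Matrix m m B
  nat : ∀ {B C : Type u} [CommRing B] [Algebra R B] [CommRing C] [Algebra R C] (φ : B →ₐ[R] C) (g : Pt R A B),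
    (ρ B g).map φ = ρ C (Pt.map φ g)

section subring

/-- Matrices with entries in a subring are closed under multiplication. -/
lemma mul_mem_entries {m : Type*} [Fintype m] {B : Type*} [CommRing B] {S : Subring B} {M N : Matrix m m B}
    (hM : ∀ i j, M i j ∈ S) (hN : ∀ i j, N i j ∈ S) (i j : m) : (M * N) i j ∈ S := by
  rw [Matrix.mul_apply]
  exact Subring.sum_mem _ fun l _ => S.mul_mem (hM i l) (hN l j)

variable {V K : Type u} [CommRing V] [Field K] [Algebra V K]

/-- the subring of `K[T;T⁻¹]` of Laurent polynomials with coefficients in the image of `V` -/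
noncomputable def lauSub (V K : Type u) [CommRing V] [Field K] [Algebra V K] : Subring K[T;T⁻¹] :=
  (AddMonoidAlgebra.mapRingHom ℤ (algebraMap V K)).range

lemma mem_lauSub {p : K[T;T⁻¹]} (h : p ∈ lauSub V K) (n : ℤ) : p.coeff n ∈ (algebraMap V K).range := by
  obtain ⟨q, rfl⟩ := h
  exact ⟨q.coeff n, by simp⟩

lemma C_mem_lauSub {x : K} (h : x ∈ (algebraMap V K).range) : LaurentPolynomial.C x ∈ lauSub V K := by
  obtain ⟨y, rfl⟩ := h
  refine ⟨LaurentPolynomial.C y, ?_⟩
  change AddMonoidAlgebra.mapRingHom ℤ (algebraMap V K) (AddMonoidAlgebra.single 0 y) = AddMonoidAlgebra.single 0 _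
  rw [AddMonoidAlgebra.mapRingHom_single]

lemma coeff_toLaurent (p : K[X]) (n : ℕ) : (Polynomial.toLaurent p).coeff (n : ℤ) = p.coeff n := by
  induction p using Polynomial.induction_on' with
  | add p q hp hq => rw [map_add, AddMonoidAlgebra.coeff_add, Finsupp.add_apply, hp, hq, Polynomial.coeff_add]
  | monomial k a =>
    rw [Polynomial.toLaurent_C_mul_T, ← LaurentPolynomial.single_eq_C_mul_T, Polynomial.coeff_monomial,
      AddMonoidAlgebra.coeff_single, Finsupp.single_apply]
    simp

end subring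

variable {idx M : Type} [Fintype idx] [AddCommGroup M] [Module.Free ℤ M]
    [Module.Finite ℤ M] {P : RootPairing idx ℤ M (Module.Dual ℤ M)} {b : P.Base}
    {R A : Type u} [CommRing R] [CommRing A] [Algebra R A] [PtGrp R A] (E : PinCell P b R A)
    {m : Type u} [Fintype m] [DecidableEq m] (r : Rep R A m)

/-- the family `λ(T) g λ(T)⁻¹` -/
noncomputable def fam (lam : M →+ ℤ) {B : Type u} [CommRing B] [Algebra R B] (x : idx → B) (t : TPt M B) : Pt R A B[X] :=
  E.cell (fun a => Polynomial.C (x a) * X ^ (lam (P.root a)).toNat) (TPt.map (pC R B) t)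

section fam

variable {lam : M →+ ℤ} {B : Type u} [CommRing B] [Algebra R B] {x : idx → B}

lemma lau_fam (hx : ∀ a, lam (P.root a) ≤ 0 → x a = 0) (t : TPt M B) : Pt.map (lau R B) (fam E lam x t) =
    E.i _ (tht lam B) * Pt.map (lC R B) (E.cell x t) * (E.i _ (tht lam B))⁻¹ :=
  lau_cell (D := E.toDatum) (L := allList b) (k := fun a => lam (P.root a)) (θ := tht lam B) (fun _ => rfl)
    (fun a ha => hx a ha.le) t

lemma eval0_fam (hx : ∀ a, lam (P.root a) ≤ 0 → x a = 0) (t : TPt M B) :
    Pt.map (pev R B 0) (fam E lam x t) = E.i B t :=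
  eval0_cell E.toDatum (allList b) (k := fun a => lam (P.root a)) hx t

end fam

variable {V K : Type u} [CommRing V] [IsDomain V] [ValuationRing V] [Field K] [Algebra V K]
  [IsFractionRing V K] [Algebra R V] [Algebra R K] [IsScalarTower R V K]

/-- an element of `K`-points whose image under `ρ` has entries in `V` -/
def IntPt (V : Type u) [CommRing V] [Algebra V K] (g : Pt R A K) : Prop :=
  ∀ i j, r.ρ K g i j ∈ (algebraMap V K).range

variable {r} in
lemma IntPt.mul {g h : Pt R A K} (hg : IntPt r V g) (hh : IntPt r V h) : IntPt r V (g * h) := by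
  intro i j
  rw [map_mul]
  exact mul_mem_entries hg hh i j

lemma intPt_map (g : Pt R A V) : IntPt r V (Pt.map (inc R V K) g) := by
  intro i j
  rw [← r.nat]
  exact ⟨r.ρ V g i j, rfl⟩

/-- `V[T;T⁻¹] → K[T;T⁻¹]` -/
noncomputable def lauInc (R V K : Type u) [CommRing R] [CommRing V] [Field K] [Algebra V K] [Algebra R V] [Algebra R K]
    [IsScalarTower R V K] : V[T;T⁻¹] →ₐ[R] K[T;T⁻¹] :=
  AddMonoidAlgebra.mapAlgHom ℤ (IsScalarTower.toAlgHom R V K)

lemma lauInc_mem (p : V[T;T⁻¹]) : lauInc R V K p ∈ lauSub V K := ⟨p, rfl⟩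

lemma rho_lauInc_mem (g : Pt R A V[T;T⁻¹]) (i j : m) : r.ρ _ (Pt.map (lauInc R V K) g) i j ∈ lauSub V K := by
  rw [← r.nat]
  exact lauInc_mem _

lemma map_tht (lam : M →+ ℤ) : TPt.map (lauInc R V K) (tht lam V) = tht lam K := by
  refine TPt.ext_ch fun c => ?_
  rw [TPt.ch_map, ch_tht, ch_tht]
  change AddMonoidAlgebra.mapAlgHom ℤ _ (AddMonoidAlgebra.single _ 1) = AddMonoidAlgebra.single _ 1
  rw [AddMonoidAlgebra.mapAlgHom_single, map_one]

/-- The coefficients of `ρ(λ(T) g λ(T)⁻¹)` are in `V`. -/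
theorem coeff_fam_mem {lam : M →+ ℤ} {x : idx → K} (hx : ∀ a, lam (P.root a) ≤ 0 → x a = 0) (t : TPt M K)
    (hg : IntPt r V (E.cell x t)) (i j : m) (n : ℕ) :
    (r.ρ K[X] (fam E lam x t) i j).coeff n ∈ (algebraMap V K).range := by
  rw [← coeff_toLaurent]
  apply mem_lauSub
  have h1 : Polynomial.toLaurent (r.ρ K[X] (fam E lam x t) i j) = r.ρ _ (Pt.map (lau R K) (fam E lam x t)) i j := by
    rw [← r.nat]; rfl
  rw [h1, lau_fam E hx, map_mul, map_mul]
  refine mul_mem_entries (mul_mem_entries ?_ ?_) ?_ i j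
  · intro i j
    rw [← map_tht (R := R) (V := V), ← E.i_nat]
    exact rho_lauInc_mem r _ i j
  · intro i j
    rw [← r.nat]
    change lC R K (r.ρ K (E.cell x t) i j) ∈ _
    rw [lC_apply]
    exact C_mem_lauSub (hg i j)
  · intro i j
    rw [← map_tht (R := R) (V := V), ← E.i_nat, ← Pt.map_inv]
    exact rho_lauInc_mem r _ i j

theorem intPt_i {lam : M →+ ℤ} {x : idx → K} (hx : ∀ a, lam (P.root a) ≤ 0 → x a = 0) (t : TPt M K)
    (hg : IntPt r V (E.cell x t)) : IntPt r V (E.i K t) := by
  intro i j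
  rw [← eval0_fam E hx, ← r.nat]
  have h := coeff_fam_mem E r hx t hg i j 0
  rw [Polynomial.coeff_zero_eq_eval_zero] at h
  change pev R K 0 (r.ρ K[X] (fam E lam x t) i j) ∈ _
  rw [pev_apply]
  exact h

/-- the Borel subgroup: the torus part is integral -/
theorem intPt_i_of_bor {lam : M →+ ℤ} (hl : Dom b lam) {x : idx → K} {t : TPt M K}
    (hg : IntPt r V (posP E x * E.i K t)) : IntPt r V (E.i K t) := by
  classical
  let y : idx → K := fun a => if b.IsPos a then x a else 0
  have hy : ∀ a, lam (P.root a) ≤ 0 → y a = 0 := by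
    intro a ha
    refine if_neg fun h => ?_
    have := (hl a).1 h
    omega
  have h1 : posP E x * E.i K t = E.cell y t := by
    have h2 : E.cell y 1 = posP E y := cell_eq_posP E (fun a ha => if_neg ha)
    rw [cell_eq_mul, map_one, mul_one] at h2
    rw [cell_eq_mul, h2, posP_congr E (x := y) (y := x) (fun a ha => if_pos ha)]
  rw [h1] at hg
  exact intPt_i E r hy t hg

end Groth.Agent.Sga3.H806.RepInt
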