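import Groth.Agent.Sga3.H806.RepUni
import Groth.Agent.Sga3B.PinModel
import Groth.Agent.Sga3B.GLn
import Groth.Agent.Sga3B.BcPts
import Groth.Agent.Sga3.H806.LawCmp
import Mathlib.AlgebraicGeometry.AlgClosed.Basic
import Mathlib.AlgebraicGeometry.Morphisms.QuasiFinite

/-!
# The functor-of-points representation of a homomorphism `G ⟶ GLS m S`

`repOf`: `f : G ⟶ GLS m S`, `q : S' ⟶ S`, `Red.bc q G` computed over `s : Spec R ⟶ S'` by `Pt R A`: a `Rep R A m`.
`finite_ker`: its kernel on `k`-points is finite when `f` is quasi-finite.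
-/

set_option autoImplicit false
universe u

open CategoryTheory MonoidalCategory CartesianMonoidalCategory MonObj AlgebraicGeometry Limits

namespace Groth.Agent.Sga3.H806.RepOf

open Groth.Agent.Sga3B Groth.Agent.Sga3B.Cell Groth.Agent.Sga3B.PinMod Groth.Agent.Sga3B.BcPts
  Groth.Agent.Sga3B.GLn Groth.Agent.Sga3.H806.RepInt

set_option linter.unusedSectionVars false

variable {S S' : Scheme.{u}} (q : S' ⟶ S) {G : Over S} [GrpObj G] {m : Type u} [Fintype m] [DecidableEq m]
  (f : G ⟶ GLS m S) {R A : Type u} [CommRing R] [CommRing A] [Algebra R A] [PtGrp R A]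
  (s : Spec (CommRingCat.of R) ⟶ S')

/-- the matrix of a `B`-point of the base change -/
noncomputable def matB (B : Type u) [CommRing B] [Algebra R B] (z : tB s B ⟶ Red.bc q G) : Matrix m m B :=
  (Scheme.ΓSpecIso (CommRingCat.of B)).hom.hom.mapMatrix
    (mat ((bcEquiv q (tB s B) G).symm z ≫ f))

lemma matB_mul [IsMonHom f] {B : Type u} [CommRing B] [Algebra R B] (z w : tB s B ⟶ Red.bc q G) :
    matB q f s B (z * w) = matB q f s B z * matB q f s B w := by
  have h : (bcEquiv q (tB s B) G).symm (z * w) = (bcEquiv q (tB s B) G).symm z * (bcEquiv q (tB s B) G).symm w :=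
    (bcMulEquiv q (tB s B) G).symm.map_mul z w
  rw [matB, h, MonObj.mul_comp, mat_mul, map_mul]
  rfl

lemma matB_eq_one_iff {B : Type u} [CommRing B] [Algebra R B] (z : tB s B ⟶ Red.bc q G) :
    matB q f s B z = 1 ↔ (bcEquiv q (tB s B) G).symm z ≫ f = 1 := by
  have hinj : Function.Injective (Scheme.ΓSpecIso (CommRingCat.of B)).hom :=
    (ConcreteCategory.bijective_of_isIso _).1
  constructor
  · intro h
    apply mat_injective
    rw [mat_one]
    have h2 : (Scheme.ΓSpecIso (CommRingCat.of B)).hom.hom.mapMatrix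
        (mat ((bcEquiv q (tB s B) G).symm z ≫ f)) = (Scheme.ΓSpecIso (CommRingCat.of B)).hom.hom.mapMatrix 1 := by
      rw [map_one]; exact h
    ext i j
    exact hinj (congrFun (congrFun h2 i) j)
  · intro h
    rw [matB, h, mat_one, map_one]

lemma matB_one {B : Type u} [CommRing B] [Algebra R B] [IsMonHom f] : matB q f s B 1 = 1 := by
  rw [matB_eq_one_iff]
  have h : (bcEquiv q (tB s B) G).symm 1 = 1 := (bcMulEquiv q (tB s B) G).symm.map_one
  rw [h, MonObj.one_comp]

lemma matB_nat {B C : Type u} [CommRing B] [Algebra R B] [CommRing C] [Algebra R C] (φ : B →ₐ[R] C)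
    (z : tB s B ⟶ Red.bc q G) : (matB q f s B z).map φ = matB q f s C (tMap s φ ≫ z) := by
  rw [matB, matB, comp_bcEquiv_symm, Category.assoc, mat_comp]
  ext i j
  change φ ((Scheme.ΓSpecIso (CommRingCat.of B)).hom _) =
    (Scheme.ΓSpecIso (CommRingCat.of C)).hom ((Spec.map (CommRingCat.ofHom (φ : B →+* C))).appTop _)
  have h := congr($(Scheme.ΓSpecIso_naturality (CommRingCat.ofHom (φ : B →+* C)))
    (mat ((bcEquiv q (tB s B) G).symm z ≫ f) i j))
  exact h.symm

/-- The representation on points of a homomorphism to `GLS`. -/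
noncomputable def repOf [IsMonHom f]
    (pts : ∀ (B : Type u) [CommRing B] [Algebra R B], Pt R A B ≃* (tB s B ⟶ Red.bc q G))
    (pts_nat : ∀ {B C : Type u} [CommRing B] [Algebra R B] [CommRing C] [Algebra R C] (φ : B →ₐ[R] C)
      (g : Pt R A B), tMap s φ ≫ pts B g = pts C (Pt.map φ g)) : Rep R A m where
  ρ B _ _ :=
    { toFun := fun g => matB q f s B (pts B g)
      map_one' := by rw [map_one, matB_one]
      map_mul' := fun g h => by rw [map_mul, matB_mul] }
  nat φ g := by
    change (matB q f s _ (pts _ g)).map φ = matB q f s _ (pts _ (Pt.map φ g))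
    rw [matB_nat, pts_nat]

lemma finite_sections {k : Type u} [Field k] [IsAlgClosed k] {W : Scheme.{u}} (w : W ⟶ Spec (CommRingCat.of k))
    [LocallyOfFiniteType w] [QuasiCompact w] [LocallyQuasiFinite w] :
    Finite {p : Spec (CommRingCat.of k) ⟶ W // p ≫ w = 𝟙 _} := by
  have h1 : (w ⁻¹' Set.univ).Finite := w.finite_preimage (Set.toFinite _)
  have h2 : Finite W := by
    rw [Set.preimage_univ] at h1
    exact Set.finite_univ_iff.mp h1
  exact Finite.of_equiv _ (pointEquivClosedPoint w).symm

/-- A quasi-finite morphism has finitely many points over a point with values in an algebraically closed field. -/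
lemma finite_lifts {k : Type u} [Field k] [IsAlgClosed k] {X Y : Scheme.{u}} (g : X ⟶ Y)
    [LocallyOfFiniteType g] [QuasiCompact g] [LocallyQuasiFinite g] (y : Spec (CommRingCat.of k) ⟶ Y) :
    {z : Spec (CommRingCat.of k) ⟶ X | z ≫ g = y}.Finite := by
  have h := finite_sections (pullback.snd g y)
  let F : {z : Spec (CommRingCat.of k) ⟶ X | z ≫ g = y} →
      {p : Spec (CommRingCat.of k) ⟶ pullback g y // p ≫ pullback.snd g y = 𝟙 _} :=
    fun z => ⟨pullback.lift z.1 (𝟙 _) (by rw [Category.id_comp]; exact z.2), pullback.lift_snd _ _ _⟩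
  have hF : Function.Injective F := by
    intro z w hzw
    have h1 := congrArg (fun p => p.1 ≫ pullback.fst g y) hzw
    simp only [F, pullback.lift_fst] at h1
    exact Subtype.ext h1
  exact Set.finite_coe_iff.mp (Finite.of_injective F hF)

theorem finite_ker [IsMonHom f] [LocallyOfFiniteType f.left] [QuasiCompact f.left] [LocallyQuasiFinite f.left]
    (pts : ∀ (B : Type u) [CommRing B] [Algebra R B], Pt R A B ≃* (tB s B ⟶ Red.bc q G))
    (pts_nat : ∀ {B C : Type u} [CommRing B] [Algebra R B] [CommRing C] [Algebra R C] (φ : B →ₐ[R] C)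
      (g : Pt R A B), tMap s φ ≫ pts B g = pts C (Pt.map φ g))
    (k : Type u) [Field k] [IsAlgClosed k] [Algebra R k] :
    {g : Pt R A k | (repOf q f s pts pts_nat).ρ k g = 1}.Finite := by
  let y : Spec (CommRingCat.of k) ⟶ (GLS m S).left := (1 : (Over.map q).obj (tB s k) ⟶ GLS m S).left
  have h := finite_lifts f.left y
  refine Set.Finite.of_injOn (f := fun g : Pt R A k => ((bcEquiv q (tB s k) G).symm (pts k g)).left)
    (t := {z : Spec (CommRingCat.of k) ⟶ G.left | z ≫ f.left = y}) ?_ ?_ h
  · intro g hg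
    have h1 := (matB_eq_one_iff q f s (pts k g)).mp hg
    exact congrArg (fun z => z.left) h1
  · intro g _ g' _ hgg
    have h1 : (bcEquiv q (tB s k) G).symm (pts k g) = (bcEquiv q (tB s k) G).symm (pts k g') := by
      ext1
      exact hgg
    exact (pts k).injective ((bcEquiv q (tB s k) G).symm.injective h1)

end Groth.Agent.Sga3.H806.RepOf
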