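import Groth.Agent.Sga3.H806.RepInt
import Mathlib.LinearAlgebra.FreeModule.PID
import Mathlib.Algebra.Module.Torsion.Basic
import Mathlib.RingTheory.IntegralClosure.IntegrallyClosed
import Mathlib.Algebra.GCDMonoid.IntegrallyClosed
import Mathlib.FieldTheory.IsAlgClosed.Basic

/-!
# Integrality of points through a representation: the torus

`t ∈ T(K)` with `ρ(t)`, `ρ(t)⁻¹` integral over a valuation ring `V`, and `ρ` with finite kernel on `k`-points for an
infinite field `k` containing the residue field of `V`: then `t ∈ T(V)`.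
-/

set_option autoImplicit false
set_option linter.unusedSectionVars false
universe u

open Polynomial LaurentPolynomial

namespace Groth.Agent.Sga3.H806.RepTorus

open Groth.Agent.Sga3B Groth.Agent.Sga3B.Cell
open Groth.Agent.Sga3B.Word Groth.Agent.RedSub.H660.Iwasawa Groth.Agent.Sga3.H806.RepInt

/-- If a multiple of `m` never lies in `N`, there is a surjection `M → ℤ` which kills `N`. -/
theorem exists_surjective_of_not_mem {M : Type*} [AddCommGroup M] [Module.Finite ℤ M]
    (N : Submodule ℤ M) (m : M) (hm : ∀ n : ℤ, n ≠ 0 → n • m ∉ N) :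
    ∃ lam : M →ₗ[ℤ] ℤ, Function.Surjective lam ∧ ∀ x ∈ N, lam x = 0 := by
  let Q := M ⧸ N
  let Q' := Q ⧸ Submodule.torsion ℤ Q
  let p : M →ₗ[ℤ] Q' := (Submodule.torsion ℤ Q).mkQ.comp N.mkQ
  have hp : Function.Surjective p := (Submodule.mkQ_surjective _).comp (Submodule.mkQ_surjective _)
  have hfree : Module.Free ℤ Q' := Module.free_of_finite_type_torsion_free'
  have hne : Nontrivial Q' := by
    refine ⟨⟨p m, 0, fun h => ?_⟩⟩
    have h1 : N.mkQ m ∈ Submodule.torsion ℤ Q := by
      change (Submodule.torsion ℤ Q).mkQ (N.mkQ m) = 0 at h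
      rwa [← LinearMap.mem_ker, Submodule.ker_mkQ] at h
    rw [Submodule.mem_torsion_iff] at h1
    obtain ⟨a, ha⟩ := h1
    refine hm a.1 (nonZeroDivisors.coe_ne_zero a) ?_
    have h2 : N.mkQ (a.1 • m) = 0 := by rw [map_smul]; exact ha
    rwa [← LinearMap.mem_ker, Submodule.ker_mkQ] at h2
  let b := Module.Free.chooseBasis ℤ Q'
  have hidx : Nonempty (Module.Free.ChooseBasisIndex ℤ Q') := by
    by_contra h
    rw [not_nonempty_iff] at h
    have : Subsingleton Q' := b.repr.toEquiv.injective.subsingleton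
    exact not_subsingleton Q' this
  obtain ⟨i⟩ := hidx
  refine ⟨(b.coord i).comp p, ?_, ?_⟩
  · intro k
    obtain ⟨x, hx⟩ := hp (k • b i)
    refine ⟨x, ?_⟩
    change b.coord i (p x) = k
    rw [hx, map_smul, Module.Basis.coord_apply, b.repr_self, Finsupp.single_eq_same, smul_eq_mul,
      _root_.mul_one]
  · intro x hx
    change b.coord i ((Submodule.torsion ℤ Q).mkQ (N.mkQ x)) = 0
    have h1 : N.mkQ x = 0 := by rwa [← LinearMap.mem_ker, Submodule.ker_mkQ]
    rw [h1, map_zero, map_zero]

section univ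

variable (M : Type) [AddCommGroup M] (B : Type u) [CommRing B]

/-- the coordinate ring of the torus -/
abbrev TR : Type u := MonoidAlgebra B (Multiplicative M)

/-- the universal torus point -/
noncomputable def tau : TPt M (TR M B) := MonoidHom.toHomUnits (MonoidAlgebra.of B (Multiplicative M))

lemma ch_tau (c : M) : TPt.ch c (tau M B) = MonoidAlgebra.single (Multiplicative.ofAdd c) 1 := rfl

end univ

variable {idx M : Type} [Fintype idx] [AddCommGroup M] [Module.Free ℤ M]
    [Module.Finite ℤ M] {P : RootPairing idx ℤ M (Module.Dual ℤ M)} {b : P.Base}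
    {R A : Type u} [CommRing R] [CommRing A] [Algebra R A] [PtGrp R A] (E : PinCell P b R A)
    {m : Type u} [Fintype m] [DecidableEq m] (r : Rep R A m)

section eval

variable {V C : Type u} [CommRing V] [CommRing C] [Algebra R V] [Algebra V C] [Algebra R C] [IsScalarTower R V C]

/-- evaluation at a torus point -/
noncomputable def evT (R : Type u) {V C : Type u} [CommRing R] [CommRing V] [CommRing C] [Algebra R V] [Algebra V C]
    [Algebra R C] [IsScalarTower R V C] (s : TPt M C) : TR M V →ₐ[R] C :=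
  (MonoidAlgebra.lift V C (Multiplicative M) ((Units.coeHom C).comp s)).restrictScalars R

lemma map_evT_tau (s : TPt M C) : TPt.map (evT R s) (tau M V) = s := by
  refine TPt.ext_ch fun c => ?_
  rw [TPt.ch_map, ch_tau]
  change MonoidAlgebra.lift V C (Multiplicative M) ((Units.coeHom C).comp s) (MonoidAlgebra.single _ 1) = _
  rw [MonoidAlgebra.lift_single, one_smul]
  rfl

lemma evT_apply (s : TPt M C) (f : TR M V) :
    evT R s f = f.coeff.sum fun c v => algebraMap V C v * (s c : C) := by
  change MonoidAlgebra.lift V C (Multiplicative M) ((Units.coeHom C).comp s) f = _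
  rw [MonoidAlgebra.lift_apply']
  rfl

/-- the weight matrices -/
noncomputable def wt (V : Type u) [CommRing V] [Algebra R V] (c : Multiplicative M) (i j : m) : V :=
  (r.ρ (TR M V) (E.i _ (tau M V)) i j).coeff c

lemma rho_i (s : TPt M C) (i j : m) : r.ρ C (E.i C s) i j =
    (r.ρ (TR M V) (E.i _ (tau M V)) i j).coeff.sum fun c v => algebraMap V C v * (s c : C) := by
  rw [← evT_apply (R := R), ← map_evT_tau (R := R) (V := V) s, ← E.i_nat, ← r.nat, map_evT_tau]
  rfl

end eval

variable {V K : Type u} [CommRing V] [IsDomain V] [ValuationRing V] [Field K] [Algebra V K]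
  [IsFractionRing V K] [Algebra R V] [Algebra R K] [IsScalarTower R V K]

/-- `V[M] → K[M]` -/
noncomputable def trInc (R V K M : Type*) [AddCommGroup M] [CommRing R] [CommRing V] [Field K] [Algebra V K]
    [Algebra R V] [Algebra R K] [IsScalarTower R V K] :
    MonoidAlgebra V (Multiplicative M) →ₐ[R] MonoidAlgebra K (Multiplicative M) :=
  MonoidAlgebra.mapAlgHom (Multiplicative M) (IsScalarTower.toAlgHom R V K)

/-- constants -/
noncomputable def trC (R K M : Type*) [AddCommGroup M] [CommRing R] [CommRing K] [Algebra R K] :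
    K →ₐ[R] MonoidAlgebra K (Multiplicative M) := IsScalarTower.toAlgHom R K (MonoidAlgebra K (Multiplicative M))

lemma trC_apply (x : K) : trC R K M x = MonoidAlgebra.single 1 x := rfl

theorem ch_mul_wt_mem {t : TPt M K} (ht : IntPt r V (E.i K t)) (c : M) (i j : m) :
    TPt.ch c t * algebraMap V K (wt E r V (Multiplicative.ofAdd c) i j) ∈ (algebraMap V K).range := by
  classical
  let s : TPt M (TR M K) := TPt.map (trC R K M) t * TPt.map (trInc R V K M) (tau M V)
  have h1 : (r.ρ (TR M K) (E.i _ s) i j).coeff (Multiplicative.ofAdd c) =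
      TPt.ch c t * algebraMap V K (wt E r V (Multiplicative.ofAdd c) i j) := by
    rw [rho_i E r (V := V) s i j, Finsupp.sum, MonoidAlgebra.coeff_sum, Finsupp.finsetSum_apply]
    have h4 : ∀ (c' : Multiplicative M) (v : V), (algebraMap V (TR M K) v * (s c' : TR M K)).coeff
        (Multiplicative.ofAdd c) = if c' = Multiplicative.ofAdd c then (t c' : K) * algebraMap V K v else 0 := by
      intro c' v
      have h5 : algebraMap V (TR M K) v * (s c' : TR M K) = MonoidAlgebra.single c' ((t c' : K) * algebraMap V K v) := by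
        change MonoidAlgebra.single 1 (algebraMap V K v) * (trC R K M (t c' : K) *
          trInc R V K M (MonoidAlgebra.single c' 1)) = _
        rw [trC_apply]
        change MonoidAlgebra.single 1 (algebraMap V K v) * (MonoidAlgebra.single 1 (t c' : K) *
          MonoidAlgebra.mapAlgHom (Multiplicative M) (IsScalarTower.toAlgHom R V K) (MonoidAlgebra.single c' 1)) = _
        rw [MonoidAlgebra.mapAlgHom_single, MonoidAlgebra.single_mul_single, MonoidAlgebra.single_mul_single]
        simp [mul_comm]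
      rw [h5, MonoidAlgebra.coeff_single, Finsupp.single_apply]
    rw [Finset.sum_congr rfl fun c' _ => h4 c' _, Finset.sum_ite_eq']
    split_ifs with h6
    · rfl
    · rw [Finsupp.notMem_support_iff] at h6
      change 0 = TPt.ch c t * algebraMap V K _
      rw [wt, h6, map_zero, mul_zero]
  have h2 : (r.ρ (TR M K) (E.i _ s) i j).coeff (Multiplicative.ofAdd c) =
      ∑ l, r.ρ K (E.i K t) i l * algebraMap V K (wt E r V (Multiplicative.ofAdd c) l j) := by
    have h3 : E.i _ s = Pt.map (trC R K M) (E.i K t) * Pt.map (trInc R V K M) (E.i _ (tau M V)) := by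
      rw [E.i_nat, E.i_nat, ← map_mul]
    rw [h3, map_mul, ← r.nat, ← r.nat, Matrix.mul_apply, MonoidAlgebra.coeff_sum, Finsupp.finsetSum_apply]
    refine Finset.sum_congr rfl fun l _ => ?_
    rw [Matrix.map_apply, Matrix.map_apply, trC_apply, MonoidAlgebra.coeff_single_one_mul]
    rfl
  rw [← h1, h2]
  exact Subring.sum_mem _ fun l _ => Subring.mul_mem _ (ht i l) ⟨_, rfl⟩

/-- a weight not vanishing on the special fibre takes integral values on `t` -/
theorem ch_mem_of_isUnit {t : TPt M K} (ht : IntPt r V (E.i K t)) {c : M} {i j : m}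
    (h : IsUnit (wt E r V (Multiplicative.ofAdd c) i j)) : TPt.ch c t ∈ (algebraMap V K).range := by
  obtain ⟨v, hv⟩ := ch_mul_wt_mem E r ht c i j
  obtain ⟨w, hw⟩ := h
  refine ⟨v * ((w⁻¹ : Vˣ) : V), ?_⟩
  rw [map_mul, hv, mul_assoc, ← map_mul, ← hw, Units.mul_inv, map_one, mul_one]

section ker

variable {k : Type u} [Field k] [Algebra V k] [Algebra R k] [IsScalarTower R V k]

/-- A cocharacter killing the weights of the special fibre is in the kernel. -/
theorem rho_cow (hk : ∀ v : V, ¬ IsUnit v → algebraMap V k v = 0) {μ : Module.Dual ℤ M}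
    (hμ : ∀ (c : M) (i j : m), IsUnit (wt E r V (Multiplicative.ofAdd c) i j) → μ c = 0) (x : kˣ) :
    r.ρ k (E.i k (TPt.cow μ x)) = 1 := by
  have h1 : ∀ i j, r.ρ k (E.i k (TPt.cow μ x)) i j = r.ρ k (E.i k 1) i j := by
    intro i j
    rw [rho_i E r (V := V) (TPt.cow μ x) i j, rho_i E r (V := V) (1 : TPt M k) i j]
    unfold Finsupp.sum
    refine Finset.sum_congr rfl fun c _ => ?_
    change algebraMap V k (wt E r V c i j) * ((TPt.cow μ x c : kˣ) : k) =
      algebraMap V k (wt E r V c i j) * (((1 : TPt M k) c : kˣ) : k)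
    by_cases h : IsUnit (wt E r V c i j)
    · have h2 : μ c.toAdd = 0 := hμ c.toAdd i j h
      have h3 : TPt.cow μ x c = 1 := by
        change x ^ (μ c.toAdd) = 1
        rw [h2, zpow_zero]
      rw [h3]
      rfl
    · rw [hk _ h, zero_mul, zero_mul]
  have h2 : r.ρ k (E.i k (TPt.cow μ x)) = r.ρ k (E.i k 1) := by
    ext i j
    exact h1 i j
  rw [h2, map_one, map_one]

theorem exists_zsmul_mem [Infinite kˣ] (hk : ∀ v : V, ¬ IsUnit v → algebraMap V k v = 0)
    (hfin : {g : Pt R A k | r.ρ k g = 1}.Finite) (c : M) : ∃ n : ℤ, n ≠ 0 ∧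
      n • c ∈ Submodule.span ℤ {c : M | ∃ i j : m, IsUnit (wt E r V (Multiplicative.ofAdd c) i j)} := by
  by_contra hm
  push Not at hm
  obtain ⟨μ, hμ, hμ0⟩ := exists_surjective_of_not_mem _ c hm
  obtain ⟨d, hd⟩ := hμ 1
  refine Set.infinite_of_injective_forall_mem (f := fun x : kˣ => E.i k (TPt.cow μ x)) ?_ ?_ hfin
  · intro x y hxy
    have h1 : TPt.cow μ x = TPt.cow μ y := E.i_inj k hxy
    have h2 : x ^ (μ d) = y ^ (μ d) := congrArg (fun t : TPt M k => t (Multiplicative.ofAdd d)) h1
    rwa [hd, zpow_one, zpow_one] at h2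
  · intro x
    exact rho_cow E r hk (fun c i j h => hμ0 c (Submodule.subset_span ⟨i, j, h⟩)) x

/-- **The torus part**: integrality of `t ∈ T(K)` from integrality of `ρ(t)` and `ρ(t)⁻¹`. -/
theorem exists_tpt [Infinite kˣ] (hk : ∀ v : V, ¬ IsUnit v → algebraMap V k v = 0)
    (hfin : {g : Pt R A k | r.ρ k g = 1}.Finite) {t : TPt M K} (ht : IntPt r V (E.i K t))
    (ht' : IntPt r V (E.i K t⁻¹)) : ∃ t₀ : TPt M V, TPt.map (inc R V K) t₀ = t := by
  have hinj : Function.Injective (algebraMap V K) := IsFractionRing.injective V K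
  -- the subgroup of characters with integral values
  let N : AddSubgroup M :=
    { carrier := {c | TPt.ch c t ∈ (algebraMap V K).range ∧ TPt.ch (-c) t ∈ (algebraMap V K).range}
      add_mem' := by
        rintro a c ⟨h1, h2⟩ ⟨h3, h4⟩
        refine ⟨by rw [TPt.ch_add]; exact Subring.mul_mem _ h1 h3, ?_⟩
        rw [neg_add, TPt.ch_add]
        exact Subring.mul_mem _ h2 h4
      zero_mem' := ⟨by rw [TPt.ch_zero]; exact Subring.one_mem _, by
        rw [neg_zero, TPt.ch_zero]; exact Subring.one_mem _⟩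
      neg_mem' := by
        rintro a ⟨h1, h2⟩
        exact ⟨h2, by rwa [neg_neg]⟩ }
  have hinv : ∀ c : M, TPt.ch c t⁻¹ = TPt.ch (-c) t := by
    intro c
    change (((t (Multiplicative.ofAdd c))⁻¹ : Kˣ) : K) = _
    rw [← map_inv]
    rfl
  have hW : ∀ c : M, (∃ i j : m, IsUnit (wt E r V (Multiplicative.ofAdd c) i j)) → c ∈ N := by
    rintro c ⟨i, j, h⟩
    refine ⟨ch_mem_of_isUnit E r ht h, ?_⟩
    rw [← hinv]
    exact ch_mem_of_isUnit E r ht' h
  have hspan : Submodule.span ℤ {c : M | ∃ i j : m, IsUnit (wt E r V (Multiplicative.ofAdd c) i j)} ≤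
      N.toIntSubmodule := Submodule.span_le.mpr hW
  have hall : ∀ c : M, TPt.ch c t ∈ (algebraMap V K).range := by
    intro c
    obtain ⟨n, hn, hc⟩ := exists_zsmul_mem E r hk hfin c
    have h1 : n • c ∈ N := hspan hc
    have h2 : (n.natAbs : ℤ) • c ∈ N := by
      rcases Int.natAbs_eq n with h | h
      · rwa [← h]
      · rw [h, neg_smul] at h1
        have := N.neg_mem h1
        rwa [neg_neg] at this
    have h3 : TPt.ch c t ^ n.natAbs ∈ (algebraMap V K).range := by
      have h4 : TPt.ch ((n.natAbs : ℤ) • c) t = TPt.ch c t ^ n.natAbs := by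
        rw [natCast_zsmul]
        change ((t (Multiplicative.ofAdd (n.natAbs • c)) : Kˣ) : K) = _
        rw [ofAdd_nsmul, map_pow, Units.val_pow_eq_pow_val]
        rfl
      rw [← h4]
      exact h2.1
    have hpos : 0 < n.natAbs := Int.natAbs_pos.mpr hn
    obtain ⟨v, hv⟩ := h3
    have h5 : IsIntegral V (TPt.ch c t) := by
      refine IsIntegral.of_pow hpos ?_
      rw [← hv]
      exact isIntegral_algebraMap
    obtain ⟨w, hw⟩ := (IsIntegrallyClosed.isIntegral_iff (R := V) (K := K)).mp h5
    exact ⟨w, hw⟩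
  choose f hf using hall
  refine ⟨MonoidHom.toHomUnits
    { toFun := fun c => f c.toAdd
      map_one' := hinj ((hf 0).trans ((TPt.ch_zero t).trans (map_one (algebraMap V K)).symm))
      map_mul' := fun a c => hinj ((hf (a.toAdd + c.toAdd)).trans (by
        rw [TPt.ch_add, ← hf, ← hf]; exact (map_mul (algebraMap V K) _ _).symm)) }, ?_⟩
  refine TPt.ext_ch fun c => ?_
  rw [TPt.ch_map]
  exact hf c

end ker

end Groth.Agent.Sga3.H806.RepTorus
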