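import Groth.Agent.Sga3.H806.RepTorus

/-!
# Integrality of points through a representation: the unipotent part, and the main theorem

`mem_of_intPt`: `E : PinCell P b R A`, `ρ` a linear representation with finite kernel on `k`-points, `V` a valuation
ring with algebraically closed fraction field `K` and residue field `k`; `g ∈ G(K)` with `ρ(g)`, `ρ(g)⁻¹` integral.
Then `g ∈ G(V)`.
-/

set_option autoImplicit false
set_option linter.unusedSectionVars false
universe u

open Polynomial LaurentPolynomial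

namespace Groth.Agent.Sga3.H806.RepUni

open Groth.Agent.Sga3B Groth.Agent.Sga3B.Cell
open Groth.Agent.Sga3B.Cell.Datum (lau lau_apply pC pC_apply lau_cell eval0_cell)
open Groth.Agent.Sga3B.Word Groth.Agent.RedSub.H660.Iwasawa Groth.Agent.Sga3.H806.RepInt
  Groth.Agent.Sga3.H806.RepTorus

section scale

variable {V K : Type u} [CommRing V] [IsDomain V] [ValuationRing V] [Field K] [Algebra V K]
  [IsFractionRing V K]

/-- `x ∈ V` iff its valuation is at most one -/
lemma mem_iff (x : K) : x ∈ (algebraMap V K).range ↔ ValuationRing.valuation V K x ≤ 1 := by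
  rw [← ValuationRing.range_algebraMap_eq]
  rfl

lemma isUnit_of (x : V) (h : ValuationRing.valuation V K (algebraMap V K x) = 1) : IsUnit x := by
  have h0 : algebraMap V K x ≠ 0 := by
    intro h0
    rw [h0, map_zero] at h
    exact zero_ne_one h
  have h1 : (algebraMap V K x)⁻¹ ∈ (algebraMap V K).range := by
    rw [mem_iff, map_inv₀, h, inv_one]
  obtain ⟨y, hy⟩ := h1
  refine .of_mul_eq_one y (IsFractionRing.injective V K ?_)
  rw [map_mul, hy, mul_inv_cancel₀ h0, map_one]

lemma not_isUnit_of (x : V) (h : ValuationRing.valuation V K (algebraMap V K x) < 1) : ¬ IsUnit x := by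
  rintro ⟨u, rfl⟩
  have h1 : ValuationRing.valuation V K (algebraMap V K ((u⁻¹ : Vˣ) : V)) ≤ 1 := (mem_iff _).mp ⟨_, rfl⟩
  have h2 : ValuationRing.valuation V K (algebraMap V K (u : V)) *
      ValuationRing.valuation V K (algebraMap V K ((u⁻¹ : Vˣ) : V)) = 1 := by
    rw [← map_mul, ← map_mul, Units.mul_inv, map_one, map_one]
  have h3 := mul_lt_one_of_lt_of_le h h1
  rw [h2] at h3
  exact lt_irrefl _ h3

/-- The scaling: a finite family of nonzero elements of `K`, not all integral, with positive weights. -/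
theorem exists_scale [IsAlgClosed K] {ι : Type} [Finite ι] (x : ι → K) (n : ι → ℕ) (hn : ∀ a, x a ≠ 0 → 0 < n a)
    (a₀ : ι) (ha₀ : x a₀ ∉ (algebraMap V K).range) :
    ∃ (c₀ : V) (y : ι → V) (a : ι), ¬ IsUnit c₀ ∧ IsUnit (y a) ∧ 0 < n a ∧
      ∀ b, algebraMap V K (y b) = algebraMap V K c₀ ^ n b * x b := by
  classical
  let v := ValuationRing.valuation V K
  have h0 : x a₀ ≠ 0 := by
    intro h
    rw [h] at ha₀
    exact ha₀ ⟨0, map_zero _⟩
  have h1 : ∀ b, ∃ c : K, x b ≠ 0 → c ^ n b = (x b)⁻¹ := by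
    intro b
    by_cases hb : x b = 0
    · exact ⟨0, fun h => absurd hb h⟩
    · obtain ⟨c, hc⟩ := IsAlgClosed.exists_pow_nat_eq (x b)⁻¹ (hn b hb)
      exact ⟨c, fun _ => hc⟩
  choose c hc using h1
  obtain ⟨a, ha, hmin⟩ := Set.exists_min_image {b | x b ≠ 0} (fun b => v (c b)) (Set.toFinite _) ⟨a₀, h0⟩
  have hv : ∀ b, x b ≠ 0 → v (c b) ^ n b * v (x b) = 1 := by
    intro b hb
    rw [← map_pow, hc b hb, ← map_mul, inv_mul_cancel₀ hb, map_one]
  have h2 : v (c a₀) < 1 := by
    rw [mem_iff, not_le] at ha₀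
    by_contra h
    rw [not_lt] at h
    have h3 : 1 ≤ v (c a₀) ^ n a₀ := one_le_pow₀ h
    have h4 := hv a₀ h0
    have h5 : 1 < v (c a₀) ^ n a₀ * v (x a₀) := lt_of_lt_of_le ha₀ (le_mul_of_one_le_left' h3)
    rw [h4] at h5
    exact lt_irrefl _ h5
  have h3 : v (c a) < 1 := (hmin a₀ h0).trans_lt h2
  obtain ⟨c₀, hc₀⟩ := (mem_iff (V := V) (c a)).mpr h3.le
  have h4 : ∀ b, c a ^ n b * x b ∈ (algebraMap V K).range := by
    intro b
    by_cases hb : x b = 0
    · rw [hb, mul_zero]; exact Subring.zero_mem _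
    · rw [mem_iff, map_mul, map_pow]
      have h5 : v (c a) ^ n b ≤ v (c b) ^ n b := pow_le_pow_left' (hmin b hb) _
      exact (mul_le_mul_left h5 _).trans (hv b hb).le
  choose y hy using h4
  refine ⟨c₀, y, a, ?_, ?_, hn a ha, fun b => by rw [hy, hc₀]⟩
  · apply not_isUnit_of (K := K)
    rw [hc₀]; exact h3
  · apply isUnit_of (K := K)
    rw [hy, map_mul, map_pow]
    exact hv a ha

end scale

variable {idx M : Type} [Fintype idx] [AddCommGroup M] [Module.Free ℤ M]
    [Module.Finite ℤ M] {P : RootPairing idx ℤ M (Module.Dual ℤ M)} {b : P.Base}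
    {R A : Type u} [CommRing R] [CommRing A] [Algebra R A] [PtGrp R A] (E : PinCell P b R A)
    {m : Type u} [Fintype m] [DecidableEq m] (r : Rep R A m)

/-- the scaling `X ↦ c X` -/
noncomputable def scl (R : Type u) {B : Type u} [CommRing R] [CommRing B] [Algebra R B] (c : B) : B[X] →ₐ[R] B[X] :=
  (Polynomial.aeval (R := B) (Polynomial.C c * X)).restrictScalars R

lemma scl_apply {B : Type u} [CommRing B] [Algebra R B] (c : B) (p : B[X]) :
    scl R c p = p.comp (Polynomial.C c * X) := by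
  change Polynomial.aeval (R := B) (Polynomial.C c * X) p = _
  rw [Polynomial.aeval_def]
  rfl

lemma map_scl_fam {lam : M →+ ℤ} {B : Type u} [CommRing B] [Algebra R B] (c : B) (x : idx → B) :
    Pt.map (scl R c) (fam E lam x 1) = fam E lam (fun a => c ^ (lam (P.root a)).toNat * x a) 1 := by
  unfold fam
  rw [E.cell_nat, map_one, map_one]
  congr 1
  funext a
  rw [scl_apply]
  simp only [Polynomial.mul_comp, Polynomial.C_comp, Polynomial.pow_comp, Polynomial.X_comp, mul_pow, map_mul, map_pow]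
  ring

lemma map_fam {lam : M →+ ℤ} {B C : Type u} [CommRing B] [Algebra R B] [CommRing C] [Algebra R C]
    (φ : B →ₐ[R] C) (x : idx → B) :
    Pt.map (Polynomial.mapAlgHom φ) (fam E lam x 1) = fam E lam (fun a => φ (x a)) 1 := by
  unfold fam
  rw [E.cell_nat, map_one, map_one, map_one]
  congr 1
  funext a
  simp

variable {V K : Type u} [CommRing V] [IsDomain V] [ValuationRing V] [Field K] [Algebra V K]
  [IsFractionRing V K] [Algebra R V] [Algebra R K] [IsScalarTower R V K]

section ker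

variable {k : Type u} [Field k] [Algebra V k] [Algebra R k] [IsScalarTower R V k]

/-- evaluation of polynomials over `V` at points of `k` -/
noncomputable def evk (R V : Type u) {k : Type u} [CommRing R] [CommRing V] [Field k] [Algebra R V] [Algebra V k]
    [Algebra R k] [IsScalarTower R V k] (τ : k) : V[X] →ₐ[R] k :=
  (Polynomial.aeval (R := V) τ).restrictScalars R

lemma evk_apply (τ : k) (p : V[X]) : evk R V τ p = (p.map (algebraMap V k)).eval τ := by
  change Polynomial.aeval (R := V) τ p = _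
  rw [Polynomial.aeval_def, Polynomial.eval_map]

/-- The reduction of the rescaled family is in the kernel. -/
theorem rho_fam_eq_one (hk : ∀ v : V, ¬ IsUnit v → algebraMap V k v = 0) {lam : M →+ ℤ} {x : idx → K}
    (hx : ∀ a, lam (P.root a) ≤ 0 → x a = 0) (hg : IntPt r V (E.cell x 1)) {c₀ : V} (hc₀ : ¬ IsUnit c₀)
    {y : idx → V} (hy : ∀ a, algebraMap V K (y a) = algebraMap V K c₀ ^ (lam (P.root a)).toNat * x a) (τ : k) :
    r.ρ k (Pt.map (evk R V τ) (fam E lam y 1)) = 1 := by
  have hinj : Function.Injective (algebraMap V K) := IsFractionRing.injective V K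
  have hy0 : ∀ a, lam (P.root a) ≤ 0 → y a = 0 := by
    intro a ha
    apply hinj
    rw [hy, hx a ha, mul_zero, map_zero]
  have h1 : Pt.map (Polynomial.mapAlgHom (inc R V K)) (fam E lam y 1) =
      Pt.map (scl R (algebraMap V K c₀)) (fam E lam x 1) := by
    rw [map_fam, map_scl_fam]
    congr 1
    funext a
    exact hy a
  have h2 : ∀ i j n, 0 < n → ¬ IsUnit ((r.ρ V[X] (fam E lam y 1) i j).coeff n) := by
    intro i j n hn hu
    have h3 : algebraMap V K ((r.ρ V[X] (fam E lam y 1) i j).coeff n) =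
        (r.ρ K[X] (fam E lam x 1) i j).coeff n * algebraMap V K c₀ ^ n := by
      have h4 := congrArg (fun g => (r.ρ K[X] g i j).coeff n) h1
      simp only [← r.nat, Matrix.map_apply] at h4
      rw [scl_apply, Polynomial.comp_C_mul_X_coeff] at h4
      rw [← h4]
      simp
    obtain ⟨w, hw⟩ := coeff_fam_mem E r hx 1 hg i j n
    rw [← hw, ← map_pow, ← map_mul] at h3
    rw [hinj h3] at hu
    exact hc₀ ((isUnit_pow_iff hn.ne').mp (isUnit_of_mul_isUnit_right hu))
  have h3 : ∀ i j, (r.ρ V[X] (fam E lam y 1) i j).coeff 0 = (1 : Matrix m m V) i j := by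
    intro i j
    have h4 : Pt.map (pev R V 0) (fam E lam y 1) = 1 := by
      rw [eval0_fam E hy0, map_one]
    have h5 := congrArg (fun g => r.ρ V g i j) h4
    simp only [← r.nat, Matrix.map_apply, map_one] at h5
    rw [pev_apply] at h5
    rw [Polynomial.coeff_zero_eq_eval_zero]
    exact h5
  ext i j
  rw [← r.nat, Matrix.map_apply, evk_apply]
  have h6 : (r.ρ V[X] (fam E lam y 1) i j).map (algebraMap V k) =
      Polynomial.C (algebraMap V k ((1 : Matrix m m V) i j)) := by
    ext n
    rw [Polynomial.coeff_map, Polynomial.coeff_C]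
    split_ifs with hn
    · rw [hn, h3]
    · exact hk _ (h2 i j n (Nat.pos_of_ne_zero hn))
  rw [h6, Polynomial.eval_C, Matrix.one_apply, Matrix.one_apply]
  split_ifs <;> simp

/-- **The unipotent part.** -/
theorem coord_mem [IsAlgClosed K] [IsAlgClosed k] (hk : ∀ v : V, ¬ IsUnit v → algebraMap V k v = 0)
    (hfin : {g : Pt R A k | r.ρ k g = 1}.Finite) {lam : M →+ ℤ} {x : idx → K}
    (hx : ∀ a, lam (P.root a) ≤ 0 → x a = 0) (hg : IntPt r V (E.cell x 1)) (a : idx) :
    x a ∈ (algebraMap V K).range := by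
  by_contra ha₀
  obtain ⟨c₀, y, a, hc₀, hya, hna, hy⟩ := exists_scale x (fun a => (lam (P.root a)).toNat) (fun a ha => by
    by_contra h
    exact ha (hx a (by omega))) a ha₀
  have hya' : algebraMap V k (y a) ≠ 0 := (hya.map (algebraMap V k)).ne_zero
  have h1 : ∀ z : k, ∃ τ : k, algebraMap V k (y a) * τ ^ (lam (P.root a)).toNat = z := by
    intro z
    obtain ⟨τ, hτ⟩ := IsAlgClosed.exists_pow_nat_eq (z / algebraMap V k (y a)) hna
    exact ⟨τ, by rw [hτ, mul_div_cancel₀ _ hya']⟩
  choose τ hτ using h1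
  have : Infinite k := IsAlgClosed.instInfinite
  refine Set.infinite_of_injective_forall_mem (f := fun z : k => Pt.map (evk R V (τ z)) (fam E lam y 1)) ?_ ?_ hfin
  · intro z w hzw
    have h2 : ∀ z : k, Pt.map (evk R V (τ z)) (fam E lam y 1) =
        E.cell (fun a => algebraMap V k (y a) * (τ z) ^ (lam (P.root a)).toNat) 1 := by
      intro z
      unfold fam
      rw [E.cell_nat, map_one, map_one]
      congr 1
      funext a
      rw [evk_apply]
      simp
    simp only [h2] at hzw
    have h3 := congrFun (E.cell_injective hzw).1 a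
    rwa [hτ, hτ] at h3
  · intro z
    exact rho_fam_eq_one E r hk hx hg hc₀ hy (τ z)

include E in
/-- **Integrality through a representation with finite kernel on the special fibre.** -/
theorem exists_pt [IsAlgClosed K] [IsAlgClosed k] (hk : ∀ v : V, ¬ IsUnit v → algebraMap V k v = 0)
    (hfin : {g : Pt R A k | r.ρ k g = 1}.Finite) {g : Pt R A K} (hg : IntPt r V g) (hg' : IntPt r V g⁻¹) :
    ∃ g₀ : Pt R A V, Pt.map (inc R V K) g₀ = g := by
  classical
  have hinf : Infinite kˣ := by
    have hinf0 : Infinite k := IsAlgClosed.instInfinite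
    rw [← not_finite_iff_infinite]
    intro hf
    have hf' : Finite k := Finite.of_surjective (fun o : Option kˣ => o.elim (0 : k) (fun u => (u : k))) (by
      intro x
      by_cases hx : x = 0
      · exact ⟨none, hx.symm⟩
      · exact ⟨some (Units.mk0 x hx), rfl⟩)
    exact not_finite_iff_infinite.mpr hinf0 hf'
  obtain ⟨lam, hl⟩ := exists_dom b
  obtain ⟨g₀, x, t, rfl⟩ := iwasawa (V := V) E g
  obtain ⟨q, hq⟩ : ∃ q : Pt R A K, q = posP E x * E.i K t := ⟨_, rfl⟩
  rw [← hq] at hg hg' ⊢
  have hq1 : IntPt r V q := by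
    have h1 : q = Pt.map (inc R V K) g₀⁻¹ * (Pt.map (inc R V K) g₀ * q) := by
      rw [Pt.map_inv, inv_mul_cancel_left]
    rw [h1]
    exact (intPt_map r _).mul hg
  have hq2 : IntPt r V q⁻¹ := by
    have h1 : q⁻¹ = (Pt.map (inc R V K) g₀ * q)⁻¹ * Pt.map (inc R V K) g₀ := by
      rw [mul_inv_rev, inv_mul_cancel_right]
    rw [h1]
    exact hg'.mul (intPt_map r _)
  have ht : IntPt r V (E.i K t) := intPt_i_of_bor E r hl (hq ▸ hq1)
  have ht' : IntPt r V (E.i K t⁻¹) := by
    have h1 : E.i K t⁻¹ * (posP E x)⁻¹ * (E.i K t⁻¹)⁻¹ ∈ Upos E K :=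
      conj_Upos E _ ((Upos E K).inv_mem ⟨x, rfl⟩)
    obtain ⟨x', hx'⟩ := h1
    have h2 : q⁻¹ = posP E x' * E.i K t⁻¹ := by
      rw [← hx', inv_mul_cancel_right, hq, mul_inv_rev, i_inv]
    rw [h2] at hq2
    exact intPt_i_of_bor E r hl hq2
  obtain ⟨t₀, ht₀⟩ := exists_tpt E r hk hfin ht ht'
  let y : idx → K := fun a => if b.IsPos a then x a else 0
  have hy : ∀ a, lam (P.root a) ≤ 0 → y a = 0 := by
    intro a ha
    refine if_neg fun h => ?_
    have := (hl a).1 h
    omega
  have h1 : E.cell y 1 = posP E x := by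
    rw [cell_eq_posP E (fun a ha => if_neg ha)]
    exact posP_congr E (fun a ha => if_pos ha)
  have h2 : IntPt r V (E.cell y 1) := by
    have h3 : E.cell y 1 = q * E.i K t⁻¹ := by rw [h1, hq, i_inv, mul_inv_cancel_right]
    rw [h3]
    exact hq1.mul ht'
  choose y₀ hy₀ using coord_mem E r hk hfin hy h2
  refine ⟨g₀ * (E.cell y₀ 1 * E.i V t₀), ?_⟩
  rw [Pt.map_mul, Pt.map_mul, E.cell_nat, E.i_nat, ht₀, map_one, hq, ← h1]
  congr 3
  funext a
  exact hy₀ a

end ker

end Groth.Agent.Sga3.H806.RepUni
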