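import Groth.Agent.Sga3.H806.QFLocus
import Groth.Agent.Sga3.H806.ApproxConn
import Groth.Agent.Sga3B.RedBc892U
import Groth.Agent.Sga3B.NearRed
import Groth.Agent.S3010

/-!
# The semisimple locus over a base of dimension at most one

* `isConnected_bc` : base changes of group schemes with connected fibres have connected fibres;
* `exists_affine_nhd` : over a locally noetherian base of dimension at most one, a smooth group scheme is affine in a
  neighbourhood of every point with semisimple geometric fibre;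
* `isOpen_ssLocus_dimOne`.
-/

set_option autoImplicit false
universe u

open CategoryTheory MonoidalCategory CartesianMonoidalCategory MonObj GrpObj AlgebraicGeometry Limits

namespace Groth.Agent.Sga3.H806.SsNear

open Groth.Agent.Sga3B Groth.Agent.Sga3B.KerGrp Groth.Agent.Sga3B.BcPts Groth.Agent.Sga3B.FreeBC
  Groth.Agent.Sga3B.DSAffPts Groth.Agent.Sga3B.AdRep Groth.Agent.Sga3B.GLn Groth.Agent.Sga3B.RadOpen
  Groth.Agent.Sga3.H778.NeutralOpen

variable {S S' : Scheme.{u}}

/-- Group schemes with connected fibres are stable under base change. -/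
theorem isConnected_bc (q : S' ⟶ S) (G : Over S) [GrpObj G]
    (h : ∀ s : S, _root_.IsConnected (G.hom.base ⁻¹' {s})) (s' : S') :
    _root_.IsConnected ((Red.bc q G).hom.base ⁻¹' {s'}) := by
  have h1 : SGA3x.neutralSet (Red.bc q G) = Set.univ := by
    rw [← ApproxConn.preimage_neutralSet, ApproxConn.neutralSet_eq_univ G h, Set.preimage_univ]
  rw [H778.NeutralPts.neutralSet_eq] at h1
  have h2 : (Red.bc q G).hom ⁻¹' {s'} = connectedComponentIn ((Red.bc q G).hom ⁻¹' {s'})
      (H778.NeutralPts.unitSec (Red.bc q G) s') := by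
    refine subset_antisymm (fun x hx => ?_) (connectedComponentIn_subset _ _)
    have h3 : x ∈ MoreMor.sectionComponents (Red.bc q G).hom (H778.NeutralPts.unitSec (Red.bc q G)) := by
      rw [h1]; trivial
    have h4 : (Red.bc q G).hom x = s' := hx
    have h5 : x ∈ connectedComponentIn ((Red.bc q G).hom ⁻¹' {(Red.bc q G).hom x})
      (H778.NeutralPts.unitSec (Red.bc q G) ((Red.bc q G).hom x)) := h3
    rwa [h4] at h5
  have h6 : H778.NeutralPts.unitSec (Red.bc q G) s' ∈ (Red.bc q G).hom ⁻¹' {s'} := H778.NeutralPts.hom_unitSec _ _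
  change _root_.IsConnected ((Red.bc q G).hom ⁻¹' {s'})
  rw [h2]
  exact isConnected_connectedComponentIn_iff.mpr h6

lemma mem_ssLocus_bc (f : S' ⟶ S) (G : Over S) [GrpObj G] (s' : S') :
    s' ∈ ssLocus (Red.bc f G) ↔ f s' ∈ ssLocus G :=
  RedBc892U.isSemisimpleOver_geomFibre_bc_iff f s'

/-- The kernel of the adjoint-type representation has discrete fibre at a point with semisimple fibre. -/
theorem discreteTopology_ker {R B : Type u} [CommRing R] [CommRing B] [Algebra R B]
    {G H : Over (Spec (CommRingCat.of R))} [GrpObj G] [GrpObj H] [IsSeparated H.hom]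
    (w : DE R B ⟶ G) [IsOpenImmersion w.left] (eW : 𝟙_ (Over (Spec (CommRingCat.of R))) ⟶ DE R B)
    (heW : eW ≫ w = η) (f : G ⟶ H) [IsMonHom f]
    (hf : ∀ {T : Over (Spec (CommRingCat.of R))} (g : T ⟶ G), g ≫ f = 1 →
      ∀ (X : Over (Spec (CommRingCat.of R))) (p : X ⟶ T) (d : X ⟶ DE R (B ⧸ augIdeal eW ^ 2)),
      (p ≫ g) * (d ≫ quotMap _ ≫ w) * (p ≫ g)⁻¹ = d ≫ quotMap _ ≫ w)
    {K : Type u} [Field K] [IsAlgClosed K] (t : Spec (CommRingCat.of K) ⟶ Spec (CommRingCat.of R))
    (hs : Red.IsSemisimpleOver K (Red.bc t G)) : DiscreteTopology (Red.bc t (kerObj f)).left := by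
  obtain ⟨_, _⟩ := exists_grpObj f
  have hGaff : IsAffine (Red.bc t G).left := hs.1.1
  obtain ⟨A, _, _, ⟨e⟩⟩ := exists_iso_DE (Red.bc t G)
  have hcl : IsClosedImmersion ((Over.pullback t).map (kerι f)).left := isClosedImmersion_bc f t
  exact SsKer.discreteTopology_of_isSemisimpleOver hs e.hom (η ≫ e.inv) (by simp)
      ((Over.pullback t).map (kerι f)) (isNormalHom_bc f t)
      (AdQF.centralizes_bc w eW heW (kerι f) (fun X p d => hf (kerι f) (kerι_comp f) X p d) t e.hom
        (η ≫ e.inv) (by simp))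

/-- The local form, on a chart. -/
theorem exists_affine_chart {R B : Type u} [CommRing R] [CommRing B] [Algebra R B]
    [IsLocallyNoetherian (Spec (CommRingCat.of R))]
    (hdim : topologicalKrullDim (Spec (CommRingCat.of R)) ≤ 1)
    [Algebra.IsStandardSmooth R B]
    {G : Over (Spec (CommRingCat.of R))} [GrpObj G] [LocallyOfFiniteType G.hom]
    [QuasiCompact G.hom] [IsSeparated G.hom]
    (w : DE R B ⟶ G) [IsOpenImmersion w.left] (eW : 𝟙_ (Over (Spec (CommRingCat.of R))) ⟶ DE R B)
    (heW : eW ≫ w = η) (s : Spec (CommRingCat.of R)) (hs : s ∈ ssLocus G) :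
    ∃ V : (Spec (CommRingCat.of R)).Opens, s ∈ V ∧ IsAffineHom (Red.bc V.ι G).hom := by
  classical
  obtain ⟨ε, -, hε⟩ := CentralTorus.exists_augHom eW
  have haug : augIdeal eW = RingHom.ker ε := Ideal.ext hε
  obtain ⟨h1, h2⟩ := FreeNbhd.free_nbhd ε
  rw [← haug] at h1 h2
  have hc : CompactSpace G.left := (quasiCompact_iff_compactSpace G.hom).mp inferInstance
  have hq : QuasiSeparatedSpace G.left := by
    have : QuasiSeparated G.hom := inferInstance
    exact (quasiSeparated_iff_quasiSeparatedSpace G.hom).mp this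
  obtain ⟨f, hf, hker⟩ := exists_adRep w eW heW
    (Module.Free.chooseBasis R (B ⧸ augIdeal eW ^ 2))
  let m := Module.Free.ChooseBasisIndex R (B ⧸ augIdeal eW ^ 2)
  let H := GLS m (Spec (CommRingCat.of R))
  have hHa : IsAffineHom H.hom := inferInstance
  have hqc : QuasiCompact f.left := by
    have : QuasiCompact (f.left ≫ H.hom) := by rw [Over.w]; infer_instance
    exact QuasiCompact.of_comp f.left H.hom
  have hsep : IsSeparated f.left := by
    have : IsSeparated (f.left ≫ H.hom) := by rw [Over.w]; infer_instance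
    exact IsSeparated.of_comp f.left H.hom
  have hd := discreteTopology_ker w eW heW f (fun g hg => (hker g).mp hg) (Red.geomPt s) hs
  obtain ⟨V, hV, hqf⟩ := QFLocus.exists_open_hom f (Red.geomPt s) hd
  rw [AdAff.geomPt_apply] at hV
  refine ⟨V, hV, ?_⟩
  have i1 : IsLocallyNoetherian (V : Scheme.{u}) := isLocallyNoetherian_of_isOpenImmersion V.ι
  have i2 : topologicalKrullDim (V : Scheme.{u}) ≤ 1 :=
    V.ι.isOpenEmbedding.isInducing.topologicalKrullDim_le.trans hdim
  have i3 : LocallyOfFiniteType (Red.bc V.ι G).hom := inferInstanceAs (LocallyOfFiniteType (pullback.snd _ _))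
  have i4 : LocallyOfFiniteType (Red.bc V.ι H).hom := inferInstanceAs (LocallyOfFiniteType (pullback.snd _ _))
  have i5 : QuasiCompact (Red.bc V.ι H).hom := inferInstanceAs (QuasiCompact (pullback.snd _ _))
  have i6 := (Sga3C.ActBase.isPullback_map_left V.ι f).flip
  have i7 : QuasiCompact ((Over.pullback V.ι).map f).left :=
    MorphismProperty.of_isPullback (P := @QuasiCompact) i6 inferInstance
  have i8 : IsSeparated ((Over.pullback V.ι).map f).left :=
    MorphismProperty.of_isPullback (P := @IsSeparated) i6 inferInstance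
  have i9 : IsAffineHom ((Over.pullback V.ι).map f).left :=
    AffineDimOne.isAffineHom_of_quasiFinite (S := V) i2 (Red.bc V.ι G) (Red.bc V.ι H) ((Over.pullback V.ι).map f)
  have i10 : IsAffineHom (Red.bc V.ι H).hom := MorphismProperty.pullback_snd (P := @IsAffineHom) _ _ hHa
  have i11 : ((Over.pullback V.ι).map f).left ≫ (Red.bc V.ι H).hom = (Red.bc V.ι G).hom :=
    Over.w ((Over.pullback V.ι).map f)
  rw [← i11]
  infer_instance

/-- affineness of the structure morphism is invariant under isomorphisms -/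
lemma isAffineHom_of_iso {G H : Over S} [GrpObj G] [GrpObj H] (e : Grp.mk G ≅ Grp.mk H) [IsAffineHom G.hom] :
    IsAffineHom H.hom := by
  let e' : G ≅ H := (Grp.forget _).mapIso e
  have hl' : IsIso e'.inv.left := inferInstanceAs (IsIso ((Over.forget _).map e'.inv))
  rw [← Over.w e'.inv]
  infer_instance

/-- **Affineness near a semisimple fibre**, dimension at most one. -/
theorem exists_affine_nhd [IsLocallyNoetherian S] (hS : topologicalKrullDim S ≤ 1) (G : Over S) [GrpObj G]
    [Smooth G.hom] [QuasiCompact G.hom] [IsSeparated G.hom] (s : S) (hs : s ∈ ssLocus G) :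
    ∃ (S' : Scheme.{u}) (j : S' ⟶ S), IsOpenImmersion j ∧ s ∈ Set.range j ∧ IsAffineHom (Red.bc j G).hom := by
  obtain ⟨R, B, i1, i2, i3, q, w, eW, hq, ⟨p, rfl⟩, hst, hw, heW⟩ := AdAff.exists_chart G s
  have hN : IsLocallyNoetherian (Spec (CommRingCat.of R)) :=
    isLocallyNoetherian_of_isOpenImmersion q
  have hdim : topologicalKrullDim (Spec (CommRingCat.of R)) ≤ 1 :=
    q.isOpenEmbedding.isInducing.topologicalKrullDim_le.trans hS
  have h1 : LocallyOfFiniteType (Red.bc q G).hom :=
    inferInstanceAs (LocallyOfFiniteType (pullback.snd _ _))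
  have h2 : QuasiCompact (Red.bc q G).hom := inferInstanceAs (QuasiCompact (pullback.snd _ _))
  have h3 : IsSeparated (Red.bc q G).hom := inferInstanceAs (IsSeparated (pullback.snd _ _))
  obtain ⟨V, hV, hVa⟩ := exists_affine_chart hdim w eW heW p ((mem_ssLocus_bc q G p).mpr hs)
  refine ⟨V, V.ι ≫ q, inferInstance, ⟨⟨p, hV⟩, ?_⟩, ?_⟩
  · rw [Scheme.Hom.comp_apply]; rfl
  · exact isAffineHom_of_iso (BcIso.bcCompIso V.ι q G).symm

/-- If `G` is affine over an open subscheme, the semisimple locus is a neighbourhood of every point of it it contains. -/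
theorem exists_open_subset_of_affine (G : Over S) [GrpObj G] [Smooth G.hom]
    (hconn : ∀ s : S, _root_.IsConnected (G.hom.base ⁻¹' {s})) (j : S' ⟶ S) [IsOpenImmersion j]
    (h : IsAffineHom (Red.bc j G).hom) (s : S) (hs : s ∈ ssLocus G) (hsj : s ∈ Set.range j) :
    ∃ W : Set S, IsOpen W ∧ s ∈ W ∧ W ⊆ ssLocus G := by
  obtain ⟨s', rfl⟩ := hsj
  have h1 : Smooth (Red.bc j G).hom := inferInstanceAs (Smooth (pullback.snd _ _))
  have h2 := S3010.result S' (Red.bc j G) (isConnected_bc j G hconn)
  refine ⟨j '' ssLocus (Red.bc j G), j.isOpenEmbedding.isOpenMap _ h2, ⟨s', (mem_ssLocus_bc j G s').mpr hs, rfl⟩, ?_⟩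
  rintro _ ⟨x, hx, rfl⟩
  exact (mem_ssLocus_bc j G x).mp hx

/-- Over a locally noetherian base of dimension at most one the semisimple locus is open. -/
theorem isOpen_ssLocus_dimOne [IsLocallyNoetherian S] (hS : topologicalKrullDim S ≤ 1) (G : Over S) [GrpObj G]
    [Smooth G.hom] [QuasiCompact G.hom]
    (hconn : ∀ s : S, _root_.IsConnected (G.hom.base ⁻¹' {s})) : IsOpen (ssLocus G) := by
  have hsep : IsSeparated G.hom := (S3025.result S G hconn).1
  rw [isOpen_iff_forall_mem_open]
  intro s hs
  obtain ⟨S', j, hj, hsj, haff⟩ := exists_affine_nhd hS G s hs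
  obtain ⟨W, h1, h2, h3⟩ := exists_open_subset_of_affine G hconn j haff s hs hsj
  exact ⟨W, h3, h1, h2⟩

end Groth.Agent.Sga3.H806.SsNear
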