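import Groth.Agent.Sga3.H806.SsNear
import Groth.Agent.Sga3.H806.Proper
import Groth.Agent.Sga3B.LocLim789
import Groth.Agent.Ega43.DvrScheme
import Groth.Agent.Pic13.H966.Topo

/-!
# The semisimple locus is open, locally noetherian case

* `isOpen_ssLocus` : for `G` smooth, quasi-compact with connected fibres over a locally noetherian scheme;
* `isAffineHom_of_semisimple` : a smooth quasi-compact group scheme over a locally noetherian scheme, all of whose
  geometric fibres are semisimple, is affine.
-/

set_option autoImplicit false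
universe u

open CategoryTheory MonoidalCategory CartesianMonoidalCategory MonObj GrpObj AlgebraicGeometry Limits

namespace Groth.Agent.Sga3.H806.SsOpen

open Groth.Agent.Sga3B Groth.Agent.Sga3B.KerGrp Groth.Agent.Sga3B.BcPts Groth.Agent.Sga3B.FreeBC
  Groth.Agent.Sga3B.DSAffPts Groth.Agent.Sga3B.AdRep Groth.Agent.Sga3B.GLn Groth.Agent.Sga3B.RadOpen
  Groth.Agent.Sga3.H806.SsNear

variable {S S' : Scheme.{u}}

lemma krullDim_dvr (O : Type u) [CommRing O] [IsDomain O] [IsDiscreteValuationRing O] :
    topologicalKrullDim (Spec (CommRingCat.of O)) ≤ 1 := by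
  have h1 : Ring.KrullDimLE 1 O := inferInstance
  rw [Ring.krullDimLE_iff, ← PrimeSpectrum.topologicalKrullDim_eq_ringKrullDim] at h1
  exact h1

lemma krullDim_field (K : Type u) [Field K] :
    topologicalKrullDim (Spec (CommRingCat.of K)) ≤ 1 := by
  have h1 : Ring.KrullDimLE 1 K := inferInstance
  rw [Ring.krullDimLE_iff, ← PrimeSpectrum.topologicalKrullDim_eq_ringKrullDim] at h1
  exact h1

/-- Over a discrete valuation ring semisimplicity of the special fibre implies that of the generic fibre. -/
theorem mem_ssLocus_of_dvr (O : Type u) [CommRing O] [IsDomain O] [IsDiscreteValuationRing O]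
    (G : Over (Spec (CommRingCat.of O))) [GrpObj G] [Smooth G.hom] [QuasiCompact G.hom]
    (hconn : ∀ s, _root_.IsConnected (G.hom.base ⁻¹' {s})) (hs : IsLocalRing.closedPoint O ∈ ssLocus G)
    (x : Spec (CommRingCat.of O)) : x ∈ ssLocus G := by
  have hN : IsLocallyNoetherian (Spec (CommRingCat.of O)) := inferInstance
  have h1 := isOpen_ssLocus_dimOne (krullDim_dvr O) G hconn
  exact (IsLocalRing.specializes_closedPoint x).mem_open h1 hs

/-- The semisimple locus is stable under generization. -/
theorem mem_ssLocus_of_specializes [IsLocallyNoetherian S] (G : Over S) [GrpObj G] [Smooth G.hom]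
    [QuasiCompact G.hom] (hconn : ∀ s : S, _root_.IsConnected (G.hom.base ⁻¹' {s})) (x y : S) (h : x ⤳ y)
    (hy : y ∈ ssLocus G) : x ∈ ssLocus G := by
  by_cases hne : x = y
  · rw [hne]; exact hy
  obtain ⟨R, _, _, _, _, _, g, hg1, hg2⟩ := Ega43.DvrScheme.exists_dvr_of_specializes h hne (S.residueField x) (𝟙 _)
    (RingHom.FiniteType.essFiniteType (RingHom.FiniteType.id _))
  have h1 : Smooth (Red.bc g G).hom := inferInstanceAs (Smooth (pullback.snd _ _))
  have h2 : QuasiCompact (Red.bc g G).hom := inferInstanceAs (QuasiCompact (pullback.snd _ _))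
  let z : Spec (CommRingCat.of R) := Spec.map (CommRingCat.ofHom (algebraMap R (S.residueField x)))
    (IsLocalRing.closedPoint (S.residueField x))
  have hz : g z = x := by
    have e2 := congrArg (fun k => k (IsLocalRing.closedPoint (S.residueField x))) hg2
    exact (Scheme.Hom.comp_apply _ _ _).symm.trans
      (e2.trans ((Scheme.Hom.comp_apply _ _ _).trans (Scheme.fromSpecResidueField_apply _ _)))
  have h3 : z ∈ ssLocus (Red.bc g G) := mem_ssLocus_of_dvr R (Red.bc g G) (isConnected_bc g G hconn)
    ((mem_ssLocus_bc g G _).mpr (by rw [hg1]; exact hy)) z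
  have h4 := (mem_ssLocus_bc g G z).mp h3
  rwa [hz] at h4

/-- The semisimple locus contains, with a point, a neighbourhood of it in its closure. -/
theorem exists_open_closure {R : Type u} [CommRing R] [IsNoetherianRing R] (G : Over (Spec (CommRingCat.of R)))
    [GrpObj G] [Smooth G.hom] [QuasiCompact G.hom]
    (hconn : ∀ s, _root_.IsConnected (G.hom.base ⁻¹' {s})) (x : Spec (CommRingCat.of R)) (hx : x ∈ ssLocus G) :
    ∃ U : Set (Spec (CommRingCat.of R)), IsOpen U ∧ x ∈ U ∧ U ∩ closure {x} ⊆ ssLocus G := by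
  have hsep : IsSeparated G.hom := (S3025.result _ G hconn).1
  let A := R ⧸ x.asIdeal
  have hprime : x.asIdeal.IsPrime := x.isPrime
  let K := FractionRing A
  let π : Spec (CommRingCat.of A) ⟶ Spec (CommRingCat.of R) :=
    Spec.map (CommRingCat.ofHom (Ideal.Quotient.mk x.asIdeal))
  let κ : Spec (CommRingCat.of K) ⟶ Spec (CommRingCat.of A) := Spec.map (CommRingCat.ofHom (algebraMap A K))
  let G₁ : Over (Spec (CommRingCat.of A)) := Red.bc π G
  have h1 : Smooth G₁.hom := inferInstanceAs (Smooth (pullback.snd _ _))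
  have h2 : QuasiCompact G₁.hom := inferInstanceAs (QuasiCompact (pullback.snd _ _))
  have h3 : IsSeparated G₁.hom := inferInstanceAs (IsSeparated (pullback.snd _ _))
  have hconn₁ := isConnected_bc π G hconn
  have h4 : Smooth (Red.bc κ G₁).hom := inferInstanceAs (Smooth (pullback.snd _ _))
  have h5 : QuasiCompact (Red.bc κ G₁).hom := inferInstanceAs (QuasiCompact (pullback.snd _ _))
  let ξ : Spec (CommRingCat.of A) := κ (IsLocalRing.closedPoint K)
  have hξ : ξ.asIdeal = ⊥ := by
    change (IsLocalRing.maximalIdeal K).comap (algebraMap A K) = ⊥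
    rw [IsLocalRing.maximalIdeal_eq_bot, ← RingHom.ker_eq_comap_bot]
    exact (RingHom.injective_iff_ker_eq_bot _).1 (IsFractionRing.injective A K)
  have hπξ : π ξ = x := by
    apply PrimeSpectrum.ext
    change ξ.asIdeal.comap (Ideal.Quotient.mk x.asIdeal) = x.asIdeal
    rw [hξ, ← RingHom.ker_eq_comap_bot, Ideal.mk_ker]
  have hξs : ξ ∈ ssLocus G₁ := by
    rw [mem_ssLocus_bc, hπξ]; exact hx
  have haff : IsAffineHom (Red.bc κ G₁).hom := by
    refine AdAff.isAffineHom_of_semisimple (krullDim_field K) (Red.bc κ G₁) fun s => ?_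
    change s ∈ ssLocus (Red.bc κ G₁)
    rw [mem_ssLocus_bc]
    have : s = IsLocalRing.closedPoint K := Subsingleton.elim (α := PrimeSpectrum K) _ _
    rw [this]
    exact hξs
  have haff' : IsAffine (pullback G₁.hom κ) := isAffine_of_isAffineHom (Red.bc κ G₁).hom
  obtain ⟨a, ha, haU⟩ := LocLim789.exists_isAffineOpen (M := nonZeroDivisors A) K G₁.hom haff'
  let U : (Spec (CommRingCat.of A)).Opens := PrimeSpectrum.basicOpen a
  have hU : IsAffineHom (Red.bc U.ι G₁).hom := by
    have h6 : IsAffine (Red.bc U.ι G₁).left := by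
      have h7 : IsAffine ((G₁.hom ⁻¹ᵁ U : G₁.left.Opens) : Scheme.{u}) := haU
      exact IsAffine.of_isIso (pullbackRestrictIsoRestrict G₁.hom U).hom
    have h8 : IsAffine (U : Scheme.{u}) := IsAffineOpen.Spec_basicOpen (R := CommRingCat.of A) a
    exact isAffineHom_of_isAffine _
  have hξU : ξ ∈ Set.range U.ι := by
    rw [Scheme.Opens.range_ι]
    change a ∉ ξ.asIdeal
    rw [hξ]
    exact fun h => nonZeroDivisors.ne_zero ha h
  obtain ⟨W, hW, hξW, hWs⟩ := exists_open_subset_of_affine G₁ hconn₁ U.ι hU ξ hξs hξU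
  have hcl : Topology.IsClosedEmbedding π :=
    PrimeSpectrum.isClosedEmbedding_comap_of_surjective _ (Ideal.Quotient.mk x.asIdeal) Ideal.Quotient.mk_surjective
  obtain ⟨U', hU', rfl⟩ := hcl.isInducing.isOpen_iff.mp hW
  refine ⟨U', hU', by rw [← hπξ]; exact hξW, ?_⟩
  rintro y ⟨hyU, hy⟩
  have hy' : y ∈ Set.range π := by
    have h9 : Set.range π = PrimeSpectrum.zeroLocus (RingHom.ker (Ideal.Quotient.mk x.asIdeal)) :=
      range_comap_of_surjective _ _ Ideal.Quotient.mk_surjective
    rw [h9, Ideal.mk_ker, ← PrimeSpectrum.closure_singleton]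
    exact hy
  obtain ⟨y', rfl⟩ := hy'
  have h10 : y' ∈ ssLocus G₁ := hWs hyU
  rwa [mem_ssLocus_bc] at h10

/-- **The semisimple locus is open**, affine noetherian base. -/
theorem isOpen_ssLocus_affine {R : Type u} [CommRing R] [IsNoetherianRing R] (G : Over (Spec (CommRingCat.of R)))
    [GrpObj G] [Smooth G.hom] [QuasiCompact G.hom]
    (hconn : ∀ s, _root_.IsConnected (G.hom.base ⁻¹' {s})) : IsOpen (ssLocus G) := by
  have hN : IsLocallyNoetherian (Spec (CommRingCat.of R)) := inferInstance
  have hN' : TopologicalSpace.NoetherianSpace (Spec (CommRingCat.of R)) :=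
    inferInstanceAs (TopologicalSpace.NoetherianSpace (PrimeSpectrum R))
  exact Pic13.H966.Topo.isOpen_of_generization_of_nhd_closure _ (mem_ssLocus_of_specializes G hconn)
    (exists_open_closure G hconn)

/-- **The semisimple locus is open**, locally noetherian base. -/
theorem isOpen_ssLocus [IsLocallyNoetherian S] (G : Over S) [GrpObj G] [Smooth G.hom]
    [QuasiCompact G.hom] (hconn : ∀ s : S, _root_.IsConnected (G.hom.base ⁻¹' {s})) : IsOpen (ssLocus G) := by
  rw [isOpen_iff_forall_mem_open]
  intro s hs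
  obtain ⟨A, _, e, he, -, s', rfl⟩ := NearRed.exists_affine S ⊤ s trivial
  have hN : IsLocallyNoetherian (Spec (CommRingCat.of A)) := isLocallyNoetherian_of_isOpenImmersion e
  have hN' : IsNoetherianRing A := isLocallyNoetherian_Spec.mp hN
  have h1 : Smooth (Red.bc e G).hom := inferInstanceAs (Smooth (pullback.snd _ _))
  have h2 : QuasiCompact (Red.bc e G).hom := inferInstanceAs (QuasiCompact (pullback.snd _ _))
  have h3 := isOpen_ssLocus_affine (Red.bc e G) (isConnected_bc e G hconn)
  refine ⟨e '' ssLocus (Red.bc e G), ?_, e.isOpenEmbedding.isOpenMap _ h3, ⟨s', (mem_ssLocus_bc e G s').mpr hs, rfl⟩⟩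
  rintro _ ⟨x, hx, rfl⟩
  exact (mem_ssLocus_bc e G x).mp hx

/-- Over a discrete valuation ring, a smooth quasi-compact group scheme with semisimple geometric fibres is reductive. -/
theorem isReductive_dvr (G : Over S) [GrpObj G] [Smooth G.hom] [QuasiCompact G.hom] (hfib : ∀ s : S, s ∈ ssLocus G)
    (O : Type u) [CommRing O] [IsDomain O] [IsDiscreteValuationRing O] (t : Spec (CommRingCat.of O) ⟶ S) :
    Red.IsReductive (Red.bc t G) := by
  have h1 : Smooth (Red.bc t G).hom := inferInstanceAs (Smooth (pullback.snd _ _))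
  have h2 : QuasiCompact (Red.bc t G).hom := inferInstanceAs (QuasiCompact (pullback.snd _ _))
  have h3 : ∀ s, s ∈ ssLocus (Red.bc t G) := fun s => (mem_ssLocus_bc t G s).mpr (hfib _)
  have hN : IsLocallyNoetherian (Spec (CommRingCat.of O)) := inferInstance
  exact ⟨AdAff.isAffineHom_of_semisimple (krullDim_dvr O) (Red.bc t G) h3, h1, fun s => (h3 s).1⟩

/-- The affine, local form. -/
theorem isAffineHom_chart {R B : Type u} [CommRing R] [CommRing B] [Algebra R B]
    [IsLocallyNoetherian (Spec (CommRingCat.of R))]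
    [Algebra.IsStandardSmooth R B]
    {G : Over (Spec (CommRingCat.of R))} [GrpObj G] [Smooth G.hom]
    [QuasiCompact G.hom] [IsSeparated G.hom]
    (w : DE R B ⟶ G) [IsOpenImmersion w.left] (eW : 𝟙_ (Over (Spec (CommRingCat.of R))) ⟶ DE R B)
    (heW : eW ≫ w = η) (hfib : ∀ s, s ∈ ssLocus G) :
    IsAffineHom G.hom := by
  classical
  obtain ⟨ε, -, hε⟩ := CentralTorus.exists_augHom eW
  have haug : augIdeal eW = RingHom.ker ε := Ideal.ext hε
  obtain ⟨h1, h2⟩ := FreeNbhd.free_nbhd ε
  rw [← haug] at h1 h2
  have hc : CompactSpace G.left := (quasiCompact_iff_compactSpace G.hom).mp inferInstance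
  have hq : QuasiSeparatedSpace G.left := by
    have : QuasiSeparated G.hom := inferInstance
    exact (quasiSeparated_iff_quasiSeparatedSpace G.hom).mp this
  obtain ⟨f, hf, hker⟩ := exists_adRep w eW heW
    (Module.Free.chooseBasis R (B ⧸ augIdeal eW ^ 2))
  let m := Module.Free.ChooseBasisIndex R (B ⧸ augIdeal eW ^ 2)
  let H := GLS m (Spec (CommRingCat.of R))
  have hHa : IsAffineHom H.hom := inferInstance
  have hqc : QuasiCompact f.left := by
    have : QuasiCompact (f.left ≫ H.hom) := by rw [Over.w]; infer_instance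
    exact QuasiCompact.of_comp f.left H.hom
  have hsep : IsSeparated f.left := by
    have : IsSeparated (f.left ≫ H.hom) := by rw [Over.w]; infer_instance
    exact IsSeparated.of_comp f.left H.hom
  have hlft : LocallyOfFiniteType f.left := by
    have : LocallyOfFiniteType (f.left ≫ H.hom) := by rw [Over.w]; infer_instance
    exact locallyOfFiniteType_of_comp f.left H.hom
  have hqf : LocallyQuasiFinite f.left :=
    AdQF.locallyQuasiFinite w eW heW f (fun g hg => (hker g).mp hg)
      fun s => ⟨_, inferInstance, inferInstance, Red.geomPt s, AdAff.geomPt_apply _ _, hfib s⟩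
  exact Proper.isAffineHom f (isReductive_dvr G hfib)

/-- **A smooth quasi-compact group scheme with semisimple geometric fibres over a locally noetherian scheme is affine.** -/
theorem isAffineHom_of_semisimple [IsLocallyNoetherian S] (G : Over S) [GrpObj G] [Smooth G.hom] [QuasiCompact G.hom]
    (hfib : ∀ s : S, s ∈ ssLocus G) : IsAffineHom G.hom := by
  have hsep : IsSeparated G.hom :=
    (S3025.result S G fun s => AdAff.isConnected_fibre G s (hfib s).1.2.2.1).1
  choose R B i1 i2 i3 q w eW hq hs hst hw heW using fun s => AdAff.exists_chart G s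
  have := AdAff.isZariskiLocalAtTarget_isAffineHom.{u}
  refine IsZariskiLocalAtTarget.of_openCover (P := @IsAffineHom)
    (Scheme.Cover.mkOfCovers (P := @IsOpenImmersion) S (fun s => Spec (CommRingCat.of (R s))) q
      (fun s => ⟨s, hs s⟩) hq) fun s => ?_
  have hqs := hq s
  have hN : IsLocallyNoetherian (Spec (CommRingCat.of (R s))) :=
    isLocallyNoetherian_of_isOpenImmersion (q s)
  have h1 : Smooth (Red.bc (q s) G).hom := inferInstanceAs (Smooth (pullback.snd _ _))
  have h2 : QuasiCompact (Red.bc (q s) G).hom := inferInstanceAs (QuasiCompact (pullback.snd _ _))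
  have h3 : IsSeparated (Red.bc (q s) G).hom := inferInstanceAs (IsSeparated (pullback.snd _ _))
  exact @isAffineHom_chart (R s) (B s) (i1 s) (i2 s) (i3 s) hN (hst s) (Red.bc (q s) G) _ h1 h2 h3
    (w s) (hw s) (eW s) (heW s) fun x => (mem_ssLocus_bc (q s) G x).mpr (hfib _)

end Groth.Agent.Sga3.H806.SsOpen
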