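import Groth.Agent.Sga3.H806.RepOf
import Groth.Agent.Sga3B.PinModelOf

/-!
# Integral points over a valuation ring with algebraically closed fraction field

`exists_lift_val`: `f : G ⟶ GLS m S` a quasi-finite homomorphism, `bc q G` pinned over `S'`, `V` a valuation ring with
algebraically closed fraction field `K`, `s : Spec V ⟶ S'`.  A `K`-point of `bc q G` whose matrix is invertible over `V`
is a `V`-point.
-/

set_option autoImplicit false
universe u

open CategoryTheory MonoidalCategory CartesianMonoidalCategory MonObj AlgebraicGeometry Limits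

namespace Groth.Agent.Sga3.H806.ValPt

open Groth.Agent.Sga3B Groth.Agent.Sga3B.Cell Groth.Agent.Sga3B.PinMod Groth.Agent.Sga3B.BcPts
  Groth.Agent.Sga3B.GLn Groth.Agent.Sga3.H806.RepInt Groth.Agent.Sga3.H806.RepOf Groth.Agent.Sga3.H806.RepUni
  Groth.Agent.RedSub.H660.Iwasawa

set_option linter.unusedSectionVars false

section residue

variable (V K : Type u) [CommRing V] [IsDomain V] [ValuationRing V] [Field K] [Algebra V K] [IsFractionRing V K]
  [IsAlgClosed K]

include K in
/-- The residue field of a valuation ring with algebraically closed fraction field is algebraically closed. -/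
theorem isAlgClosed_residueField : IsAlgClosed (IsLocalRing.ResidueField V) := by
  classical
  let _ := IsBezout.toGCDDomain V
  refine IsAlgClosed.of_exists_root _ fun p hp hirr => ?_
  obtain ⟨P, hP1, hP2, hP3⟩ := Polynomial.lifts_and_natDegree_eq_and_monic
    (f := algebraMap V (IsLocalRing.ResidueField V)) (p := p)
    (Polynomial.mem_lifts p |>.mpr (Polynomial.map_surjective _ IsLocalRing.residue_surjective p)) hp
  have hdeg : (P.map (algebraMap V K)).degree ≠ 0 := by
    rw [hP3.degree_map, Polynomial.degree_eq_natDegree hP3.ne_zero, hP2]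
    exact_mod_cast hirr.natDegree_pos.ne'
  obtain ⟨x, hx⟩ := IsAlgClosed.exists_root _ hdeg
  have hint : IsIntegral V x := ⟨P, hP3, by rwa [Polynomial.IsRoot.def, Polynomial.eval_map] at hx⟩
  obtain ⟨v, hv⟩ := (IsIntegrallyClosed.isIntegral_iff (R := V) (K := K)).mp hint
  refine ⟨algebraMap V _ v, ?_⟩
  rw [← hP1, Polynomial.eval_map, Polynomial.eval₂_at_apply]
  have h1 : algebraMap V K (P.eval v) = 0 := by
    rw [← Polynomial.eval₂_at_apply, hv, ← Polynomial.eval_map]
    exact hx
  rw [IsFractionRing.injective V K (h1.trans (map_zero _).symm), map_zero]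

end residue

variable {S S' : Scheme.{u}} (q : S' ⟶ S) {G : Over S} [GrpObj G] {m : Type u} [Fintype m] [DecidableEq m]
  (f : G ⟶ GLS m S)
variable {V K : Type u} [CommRing V] [IsDomain V] [ValuationRing V] [Field K] [Algebra V K] [IsFractionRing V K]

/-- `Spec K ⟶ Spec V` over `S'` -/
noncomputable def vk (V K : Type u) [CommRing V] [Field K] [Algebra V K] (s : Spec (CommRingCat.of V) ⟶ S') :
    tB (R := V) s K ⟶ tB (R := V) s V := tMap s (IsScalarTower.toAlgHom V V K)

theorem exists_lift_val [IsAlgClosed K] [IsMonHom f] [LocallyOfFiniteType f.left] [QuasiCompact f.left]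
    [LocallyQuasiFinite f.left] (D : Red.Pinning (Red.bc q G)) (s : Spec (CommRingCat.of V) ⟶ S')
    (z : tB (R := V) s K ⟶ Red.bc q G) (N N' : Matrix m m V) (hNN' : N' * N = 1)
    (hN : matB q f s K z = N.map (algebraMap V K)) :
    ∃ z₀ : tB (R := V) s V ⟶ Red.bc q G, vk V K s ≫ z₀ = z := by
  obtain ⟨Mo⟩ := PinModelOf.nonempty_pinModel D V s
  let k := IsLocalRing.ResidueField V
  have hk : IsAlgClosed k := isAlgClosed_residueField V K
  let r : Rep V Mo.A m := repOf q f s Mo.pts Mo.pts_nat
  have hfin : {g : Pt V Mo.A k | r.ρ k g = 1}.Finite := finite_ker q f s Mo.pts Mo.pts_nat k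
  let g : Pt V Mo.A K := (Mo.pts K).symm z
  have hg : r.ρ K g = N.map (algebraMap V K) := by
    change matB q f s K (Mo.pts K ((Mo.pts K).symm z)) = _
    rw [MulEquiv.apply_symm_apply, hN]
  have hg1 : IntPt r V g := by
    intro i j
    rw [hg]
    exact ⟨N i j, rfl⟩
  have hg2 : IntPt r V g⁻¹ := by
    have h1 : N'.map (algebraMap V K) * r.ρ K g = 1 := by
      rw [hg, ← Matrix.map_mul, hNN', Matrix.map_one _ (map_zero _) (map_one _)]
    have h2 : r.ρ K g⁻¹ = N'.map (algebraMap V K) := by
      have h3 : r.ρ K g * r.ρ K g⁻¹ = 1 := by rw [← map_mul, mul_inv_cancel, map_one]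
      calc r.ρ K g⁻¹ = (N'.map (algebraMap V K) * r.ρ K g) * r.ρ K g⁻¹ := by rw [h1, _root_.one_mul]
        _ = N'.map (algebraMap V K) := by rw [_root_.mul_assoc, h3, _root_.mul_one]
    intro i j
    rw [h2]
    exact ⟨N' i j, rfl⟩
  obtain ⟨g₀, hg₀⟩ := exists_pt Mo.E r (k := k) (fun v hv => (IsLocalRing.residue_eq_zero_iff v).mpr hv) hfin hg1 hg2
  refine ⟨Mo.pts V g₀, ?_⟩
  have h1 := Mo.pts_nat (IsScalarTower.toAlgHom V V K) g₀
  have h2 : Pt.map (IsScalarTower.toAlgHom V V K) g₀ = g := hg₀
  rw [h2, MulEquiv.apply_symm_apply] at h1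
  exact h1

end Groth.Agent.Sga3.H806.ValPt
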